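import Cfsg.Agent.H57.ExtOrth.Three.Free

/-!
Counting gives two independent vectors of a singular line with singular images.
-/

set_option autoImplicit false

namespace Cfsg.Agent.H57.ExtOrth

open QuadraticMap Module Cfsg.Agent.Orthogonal

variable {F K V : Type*} [Field F] [Field K] [Algebra F K] [AddCommGroup V] [Module F V] [Module K V]
  [IsScalarTower F K V] [FiniteDimensional F K] [FiniteDimensional K V] [FiniteDimensional F V] [Finite F] [Finite K]
  {Q : QuadraticForm F V} {S : EStr Q K} {X : Subgroup (O Q)}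

omit [IsScalarTower F K V] [FiniteDimensional F K] [FiniteDimensional K V] [Finite K] [Algebra F K] [Module K V] in
theorem finite_O : Finite (O Q) := by
  have : Finite V := Module.finite_of_finite F
  exact Finite.of_injective (fun g : O Q => fun x => (g : V ≃ₗ[F] V) x) fun g h e => O.ext_app fun x => congrFun e x

/-- Cauchy-Schwarz on the images of a set. -/
theorem exists_le_overlap {G α : Type*} [Group G] [Fintype G] [MulAction G α] [DecidableEq α] (A Z : Finset α)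
    (hmap : ∀ g : G, ∀ x ∈ A, g • x ∈ Z) :
    Fintype.card G * A.card ^ 2 ≤ Z.card * ∑ g : G, (A.filter fun x => g • x ∈ A).card := by
  classical
  let c : α → ℕ := fun w => ∑ g : G, if g⁻¹ • w ∈ A then 1 else 0
  have hs : ∑ w ∈ Z, c w = Fintype.card G * A.card := by
    rw [Finset.sum_comm, ← smul_eq_mul, ← Finset.card_univ, ← Finset.sum_const]
    refine Finset.sum_congr rfl fun g _ => ?_
    rw [← Finset.card_filter]
    refine Finset.card_bij (fun w _ => g⁻¹ • w) (fun w hw => (Finset.mem_filter.1 hw).2)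
      (fun _ _ _ _ h => MulAction.injective g⁻¹ h) fun x hx => ⟨g • x, Finset.mem_filter.2 ⟨hmap g x hx, ?_⟩, ?_⟩
    · rwa [inv_smul_smul]
    · rw [inv_smul_smul]
  have hsq : ∑ w ∈ Z, c w ^ 2 = Fintype.card G * ∑ g : G, (A.filter fun x => g • x ∈ A).card := by
    have h1 : ∀ w, c w ^ 2 = ∑ g : G, ∑ h : G, if g⁻¹ • w ∈ A ∧ h⁻¹ • w ∈ A then 1 else 0 := fun w => by
      rw [pow_two, Finset.sum_mul_sum]
      refine Finset.sum_congr rfl fun g _ => Finset.sum_congr rfl fun h _ => ?_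
      by_cases h1 : g⁻¹ • w ∈ A <;> simp [h1]
    rw [Finset.sum_congr rfl fun w _ => h1 w, Finset.sum_comm, ← smul_eq_mul, ← Finset.card_univ, ← Finset.sum_const]
    refine Finset.sum_congr rfl fun g _ => ?_
    rw [Finset.sum_comm]
    refine (Fintype.sum_equiv (Equiv.mulLeft g) _ _ fun k => ?_).symm
    rw [← Finset.card_filter]
    refine Finset.card_bij (fun x _ => (g * k) • x) (fun x hx => ?_) (fun _ _ _ _ h => MulAction.injective _ h)
      fun w hw => ⟨(g * k)⁻¹ • w, Finset.mem_filter.2 ⟨(Finset.mem_filter.1 hw).2.2, ?_⟩, ?_⟩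
    · obtain ⟨h2, h3⟩ := Finset.mem_filter.1 hx
      refine Finset.mem_filter.2 ⟨hmap _ x h2, ?_, ?_⟩
      · rwa [mul_smul, inv_smul_smul]
      · show (g * k)⁻¹ • (g * k) • x ∈ A
        rwa [inv_smul_smul]
    · rw [smul_smul, mul_inv_rev, ← mul_assoc, mul_inv_cancel, one_mul]
      exact (Finset.mem_filter.1 hw).2.1
    · rw [smul_inv_smul]
  have hcs := sq_sum_le_card_mul_sum_sq (s := Z) (f := c)
  rw [hs, hsq] at hcs
  refine Nat.le_of_mul_le_mul_left ?_ (Fintype.card_pos : 0 < Fintype.card G)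
  linarith [hcs, show (Fintype.card G * A.card) ^ 2 = Fintype.card G * (Fintype.card G * A.card ^ 2) by ring]

omit [FiniteDimensional F K] [IsScalarTower F K V] in
theorem no_count {q Q' N s A Z P : ℕ} (hq : 2 ≤ q) (hQ : q < Q') (hZ : q * (Z + 1) = Q' ^ 3) (hA : A + 1 = Q' ^ 2)
    (hN : (Q' + 1) * s ≤ N) (hN0 : 0 < N) (hcs : N * A ^ 2 ≤ Z * P)
    (hP : P + s * ((Q' + 1) * (q - 1)) ≤ s * A + N * ((Q' + 1) * (q - 1))) : False := by
  obtain ⟨q', rfl⟩ : ∃ q', q = q' + 1 := ⟨q - 1, by omega⟩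
  rw [Nat.add_sub_cancel] at hP
  have hAZ : (A : ℤ) = (Q' : ℤ) ^ 2 - 1 := by
    have : ((A : ℤ) + 1) = (Q' : ℤ) ^ 2 := by exact_mod_cast hA
    linarith
  have hZ' : ((q' : ℤ) + 1) * ((Z : ℤ) + 1) = (Q' : ℤ) ^ 3 := by exact_mod_cast hZ
  have hNs : ((Q' : ℤ) + 1) * s ≤ N := by exact_mod_cast hN
  have hP' : (P : ℤ) + s * ((Q' + 1) * q') ≤ s * A + N * ((Q' + 1) * q') := by exact_mod_cast hP
  have hcs' : (N : ℤ) * (A : ℤ) ^ 2 ≤ Z * P := by exact_mod_cast hcs
  have hQq : (q' : ℤ) + 2 ≤ Q' := by exact_mod_cast hQ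
  have hdiff : 0 ≤ (A : ℤ) - ((Q' : ℤ) + 1) * q' := by rw [hAZ]; nlinarith
  have e1 : ((Q' : ℤ) + 1) * P ≤ N * ((A : ℤ) + Q' * ((Q' + 1) * q')) := by
    nlinarith [mul_le_mul_of_nonneg_right hNs hdiff]
  have e2 : (N : ℤ) * (((Q' : ℤ) + 1) * (A : ℤ) ^ 2) ≤
      (Z : ℤ) * (N * ((A : ℤ) + Q' * ((Q' + 1) * q'))) := by
    calc (N : ℤ) * (((Q' : ℤ) + 1) * (A : ℤ) ^ 2) = ((Q' : ℤ) + 1) * (N * (A : ℤ) ^ 2) := by ring
      _ ≤ ((Q' : ℤ) + 1) * (Z * P) := by nlinarith
      _ = (Z : ℤ) * (((Q' : ℤ) + 1) * P) := by ring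
      _ ≤ _ := by nlinarith
  have hN' : (0 : ℤ) < N := by exact_mod_cast hN0
  have e3 : ((Q' : ℤ) + 1) * (A : ℤ) ^ 2 ≤ (Z : ℤ) * ((A : ℤ) + Q' * ((Q' + 1) * q')) := by nlinarith
  rw [hAZ] at e3
  have e4 : ((Q' : ℤ) + 1) * (((Q' : ℤ) ^ 2 - 1) ^ 2) ≤ ((Q' : ℤ) + 1) * ((Z : ℤ) * ((Q' : ℤ) * (q' + 1) - 1)) := by
    linarith
  have e5 : (((Q' : ℤ) ^ 2 - 1) ^ 2) ≤ (Z : ℤ) * ((Q' : ℤ) * (q' + 1) - 1) :=
    le_of_mul_le_mul_left e4 (by positivity)
  have e6 : (Q' : ℤ) * ((Q' : ℤ) - (q' + 1)) ^ 2 ≤ 0 := by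
    nlinarith [mul_le_mul_of_nonneg_left e5 (show (0 : ℤ) ≤ (q' : ℤ) + 1 by positivity)]
  nlinarith

namespace EStr

omit [IsScalarTower F K V] [FiniteDimensional K V] [FiniteDimensional F V] [Finite K] in
/-- The field has at least 27 elements. -/
theorem card_field_ge (S : EStr Q K) (h3 : 3 ≤ finrank F K) : 27 ≤ Nat.card K := by
  have hF : 3 ≤ Nat.card F := by
    by_contra hc
    have h2 : Nat.card F = 2 := le_antisymm (by omega) Finite.one_lt_card
    have := Fintype.ofFinite F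
    rw [Nat.card_eq_fintype_card] at h2
    have h0 : (2 : F) = 0 := by
      have := Nat.cast_card_eq_zero F
      rw [h2] at this
      exact_mod_cast this
    exact S.two (by rw [← map_ofNat (algebraMap F K) 2, h0, map_zero])
  have h1 : 3 ^ 3 ≤ Nat.card F ^ 3 := Nat.pow_le_pow_left hF 3
  have h2 : Nat.card F ^ 3 ≤ Nat.card F ^ finrank F K := Nat.pow_le_pow_right Nat.card_pos h3
  rw [Module.natCard_eq_pow_finrank (K := F)]
  omega

/-- Three field elements with different fourth powers. -/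
theorem exists_three_fourth (hK : 27 ≤ Nat.card K) :
    ∃ b : Fin 3 → K, (∀ i, b i ≠ 0) ∧ ∀ i j, (b i) ^ 4 = (b j) ^ 4 → i = j := by
  classical
  have := Fintype.ofFinite K
  set s : Finset K := Finset.univ.erase 0 with hs
  have hfib : ∀ y ∈ s.image (· ^ 4), (s.filter fun x => x ^ 4 = y).card ≤ 4 := fun y _ =>
    (Finset.card_le_card (t := (Polynomial.nthRoots 4 y).toFinset) fun x hx => by
      simpa [Polynomial.mem_nthRoots] using (Finset.mem_filter.1 hx).2).trans
      ((Multiset.toFinset_card_le _).trans (Polynomial.card_nthRoots 4 y))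
  have h1 := Finset.card_le_mul_card_image s 4 hfib
  rw [hs, Finset.card_erase_of_mem (Finset.mem_univ 0), Finset.card_univ, ← Nat.card_eq_fintype_card] at h1
  obtain ⟨t, ht, htc⟩ := Finset.exists_subset_card_eq (s := (Finset.univ.erase (0 : K)).image (· ^ 4)) (n := 3) (by omega)
  let e : Fin 3 ≃ t := (Finset.equivFinOfCardEq htc).symm
  choose b hb hb' using fun i => Finset.mem_image.1 (ht (e i).2)
  refine ⟨b, fun i => Finset.ne_of_mem_erase (hb i), fun i j h => ?_⟩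
  rw [hb', hb'] at h
  exact e.injective (Subtype.ext h)

theorem Tri.torus_R {u f z₀ : V} (t : S.Tri u f z₀) {b : K} (hb : b ≠ 0) :
    ∃ n ∈ commutator (O S.QK), ∀ a : K,
      S.res n * t.R (Multiplicative.ofAdd a) * (S.res n)⁻¹ = t.R (Multiplicative.ofAdd (b * b * a)) := by
  obtain ⟨n, hn, hu, -, hz⟩ := t.toPair.exists_torus' hb
  refine ⟨n, hn, fun a => ?_⟩
  simp only [t.R_eq, EStr.E, ← map_inv, ← map_mul, sie_conj, toAdd_ofAdd]
  refine congrArg S.res ?_
  have hu' : (n : V ≃ₗ[K] V) u = (b * b) • u := by simpa using hu 1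
  have hz' : (n : V ≃ₗ[K] V) (a • z₀) = a • z₀ := by rw [map_smul, hz z₀ t.zu t.zf]
  rw [sie_congr _ _ (by rw [qmap_smul, t.su, mul_zero])
    (by rw [polar_smul_left', show polar S.QK u (a • z₀) = 0 from t.smul_zu a, mul_zero]) hu' hz',
    sie_smul t.su (t.smul_zu a)]
  exact sie_congr _ _ _ _ rfl (smul_smul _ _ _)

/-- The semilinear elements have index at least one more than the field. -/
theorem NoT.index_ge (hN : S.NoT X) (hm : finrank K V = 3) (hr : (finrank F K).Prime) (h3 : 3 ≤ finrank F K)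
    (hK : 27 ≤ Nat.card K) (hX : S.Over X) {u f z₀ : V} (t : S.Tri u f z₀) {g₀ : O Q} (hg₀ : g₀ ∈ X)
    (hns₀ : ¬Semi K g₀) : Nat.card K + 1 ≤ Nat.card (X ⧸ (semiGroup K X).subgroupOf X) := by
  classical
  have : Finite (O Q) := finite_O
  set Sg := semiGroup K X with hSg
  let cs : O Q → X → X ⧸ Sg.subgroupOf X := fun _ y => (y : X ⧸ Sg.subgroupOf X)
  have hsemiR : ∀ a, Semi K (t.R a) := fun a k => ⟨k, t.R_semi a k⟩
  have hRX : ∀ a, t.R a ∈ X := fun a => by rw [t.R_eq]; exact hX.E_mem _ _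
  let ψ : Multiplicative K →* O Q := (MulAut.conj g₀⁻¹).toMonoidHom.comp t.R
  have hψ : ∀ a, ψ a = g₀⁻¹ * t.R a * g₀ := fun a => by simp [ψ]
  set Bad := Sg.comap ψ with hBad
  have hbad : ∀ a, a ∈ Bad ↔ Semi K (g₀⁻¹ * t.R a * g₀) := fun a => by
    rw [hBad, Subgroup.mem_comap, hψ, hSg, mem_semiGroup]
    exact and_iff_right (X.mul_mem (X.mul_mem (X.inv_mem hg₀) (hRX a)) hg₀)
  -- classes
  have hclass : ∀ (y y' : O Q) (hy : y ∈ X) (hy' : y' ∈ X),
      ((⟨y, hy⟩ : X) : X ⧸ Sg.subgroupOf X) = ((⟨y', hy'⟩ : X) : X ⧸ Sg.subgroupOf X) → Semi K (y⁻¹ * y') := by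
    intro y y' hy hy' h
    have h1 := QuotientGroup.eq.1 h
    rw [Subgroup.mem_subgroupOf, hSg, mem_semiGroup] at h1
    exact h1.2
  suffices h : ∃ (ι : Type _) (_ : Finite ι) (φ : ι → O Q), Nat.card K ≤ Nat.card ι ∧
      (∀ i, φ i ∈ X ∧ Semi K (φ i)) ∧ ∀ i j, Semi K ((φ i * g₀)⁻¹ * (φ j * g₀)) → i = j by
    obtain ⟨ι, _, φ, hc, hφ, hinj⟩ := h
    let Φ : Option ι → X ⧸ Sg.subgroupOf X := fun o => o.elim ((1 : X) : X ⧸ Sg.subgroupOf X)
      fun i => ((⟨φ i * g₀, X.mul_mem (hφ i).1 hg₀⟩ : X) : X ⧸ Sg.subgroupOf X)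
    have hnone : ∀ i, Φ none ≠ Φ (some i) := fun i h => hns₀ (by
      have h1 := hclass 1 _ X.one_mem _ h
      rw [inv_one, one_mul] at h1
      have hi : Semi K (φ i)⁻¹ :=
        (mem_semiGroup.1 (Sg.inv_mem (mem_semiGroup.2 (hφ i)))).2
      simpa using semi_mul hi h1)
    have hinj' : Function.Injective Φ := by
      rintro (_ | i) (_ | j) h
      · rfl
      · exact absurd h (hnone j)
      · exact absurd h.symm (hnone i)
      · exact congrArg some (hinj i j (hclass _ _ _ _ h))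
    have := Nat.card_le_card_of_injective Φ hinj'
    rw [Finite.card_option] at this
    omega
  by_cases hB : Bad = ⊥
  · refine ⟨Multiplicative K, inferInstance, t.R, (Nat.card_congr Multiplicative.toAdd).ge, fun a => ⟨hRX a, hsemiR a⟩,
      fun a b h => ?_⟩
    have h1 : a⁻¹ * b ∈ Bad := (hbad _).2 (by
      rw [map_mul, map_inv]; convert h using 1; group)
    rw [hB, Subgroup.mem_bot] at h1
    exact inv_mul_eq_one.1 h1
  -- the exceptional elements
  have haut : ∀ a : Bad, a ≠ 1 → finrank F K ≤ 3 ∧ ∃ σ : K ≃ₐ[F] K, σ ≠ 1 ∧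
      ∀ (k : K) (x : V), ((g₀⁻¹ * t.R a * g₀ : O Q) : V ≃ₗ[F] V) (k • x) =
        σ k • ((g₀⁻¹ * t.R a * g₀ : O Q) : V ≃ₗ[F] V) x :=
    fun a ha => hN.conj_semi hm hr h3 hK hX t hg₀ hns₀ (fun e => ha (Subtype.ext e)) ((hbad _).1 a.2)
  choose σ hσ using fun a : Bad => ((hbad _).1 a.2).exists_aut t.toPair.ne_zero
  have hσinj : Function.Injective σ := fun a b hab => by
    by_contra hne
    obtain ⟨-, s, hs, hs'⟩ := haut (a⁻¹ * b) (fun e => hne (inv_mul_eq_one.1 e))
    refine hs (AlgEquiv.ext fun k => ?_)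
    have hb := hσ b k
    have ha := hσ a
    set A : O Q := g₀⁻¹ * t.R a * g₀ with hA
    set B : O Q := g₀⁻¹ * t.R b * g₀ with hB'
    have hC : g₀⁻¹ * t.R (a⁻¹ * b : Bad) * g₀ = A⁻¹ * B := by
      rw [Subgroup.coe_mul, Subgroup.coe_inv, map_mul, map_inv, hA, hB']; group
    set y := ((B⁻¹ * A : O Q) : V ≃ₗ[F] V) u with hy
    have h1 := hs' k y
    rw [hC] at h1
    apply smul_left_injective K t.toPair.ne_zero
    show s k • u = k • u
    have h2 : ((A⁻¹ * B : O Q) : V ≃ₗ[F] V) (k • y) = k • ((A⁻¹ * B : O Q) : V ≃ₗ[F] V) y := by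
      apply (A : V ≃ₗ[F] V).injective
      rw [ha, ← hab.symm, ← mul_app, ← mul_app, ← Subgroup.coe_mul, mul_inv_cancel_left, hb]
    rw [h2] at h1
    have h3 : ((A⁻¹ * B : O Q) : V ≃ₗ[F] V) y = u := by
      rw [hy, ← mul_app, ← Subgroup.coe_mul, show A⁻¹ * B * (B⁻¹ * A) = 1 by group]; rfl
    rw [h3] at h1
    exact h1.symm
  obtain ⟨⟨a₁, ha₁⟩, ha₁1'⟩ := Subgroup.ne_bot_iff_exists_ne_one.1 hB
  have ha₁1 : a₁ ≠ 1 := fun e => ha₁1' (Subtype.ext e)
  have hB3 : Nat.card Bad ≤ 3 := by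
    have := (haut ⟨a₁, ha₁⟩ fun e => ha₁1 (congrArg Subtype.val e)).1
    have h1 : Fintype.card (K ≃ₐ[F] K) ≤ finrank F K := AlgEquiv.card_le
    rw [← Nat.card_eq_fintype_card] at h1
    exact (Nat.card_le_card_of_injective σ hσinj).trans (h1.trans this)
  obtain ⟨b, hb0, hb⟩ := exists_three_fourth hK
  choose n hn hnR using fun i => t.torus_R (hb0 i)
  have hsn : ∀ i, Semi K (S.res (n i)) := fun i k => ⟨k, fun x => by rw [res_app, res_app, map_smul]⟩
  refine ⟨Fin 3 × (Multiplicative K ⧸ Bad), inferInstance, fun p => S.res (n p.1) * t.R p.2.out, ?_,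
    fun p => ⟨X.mul_mem (hX.res_mem (hn _)) (hRX _), semi_mul (hsn _) (hsemiR _)⟩, ?_⟩
  · rw [Nat.card_prod, Nat.card_fin, ← Nat.card_congr (Multiplicative.toAdd (α := K)),
      Subgroup.card_eq_card_quotient_mul_card_subgroup Bad, mul_comm]
    exact Nat.mul_le_mul_right _ hB3
  rintro ⟨i, p⟩ ⟨j, q⟩ h
  set c := p.out
  set c' := q.out
  set y := (S.res (n i) * t.R c * g₀)⁻¹ * (S.res (n j) * t.R c' * g₀) with hy
  have hyS : y ∈ Sg := mem_semiGroup.2 ⟨X.mul_mem (X.inv_mem (X.mul_mem (X.mul_mem (hX.res_mem (hn _)) (hRX _)) hg₀))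
    (X.mul_mem (X.mul_mem (hX.res_mem (hn _)) (hRX _)) hg₀), h⟩
  set e := Multiplicative.ofAdd (b j * b j / (b i * b i) * a₁.toAdd) with he
  have hbi : b i * b i ≠ 0 := mul_ne_zero (hb0 i) (hb0 i)
  have hey : g₀⁻¹ * t.R e * g₀ = y * (g₀⁻¹ * t.R a₁ * g₀) * y⁻¹ := by
    have e1 : S.res (n i) * t.R e * (S.res (n i))⁻¹ = S.res (n j) * t.R a₁ * (S.res (n j))⁻¹ := by
      rw [he, hnR, ← ofAdd_toAdd a₁, hnR, toAdd_ofAdd, ← mul_assoc, mul_div_cancel₀ _ hbi]
    have e2 : ∀ x z : Multiplicative K, t.R x * t.R z = t.R z * t.R x := fun x z => by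
      rw [← map_mul, ← map_mul, mul_comm]
    have e3 : t.R e = (S.res (n i))⁻¹ * (S.res (n j) * t.R a₁ * (S.res (n j))⁻¹) * S.res (n i) := by
      rw [← e1]; group
    calc g₀⁻¹ * t.R e * g₀ = g₀⁻¹ * ((t.R c)⁻¹ * (t.R c * t.R e)) * g₀ := by group
      _ = g₀⁻¹ * ((t.R c)⁻¹ * (t.R e * t.R c)) * g₀ := by rw [e2]
      _ = g₀⁻¹ * (t.R c)⁻¹ * ((S.res (n i))⁻¹ * S.res (n j) * t.R a₁ * (t.R c' * (t.R c')⁻¹) * (S.res (n j))⁻¹ *
          S.res (n i)) * t.R c * g₀ := by rw [e3]; group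
      _ = g₀⁻¹ * (t.R c)⁻¹ * ((S.res (n i))⁻¹ * S.res (n j) * (t.R c' * t.R a₁) * (t.R c')⁻¹ * (S.res (n j))⁻¹ *
          S.res (n i)) * t.R c * g₀ := by rw [e2 c' a₁]; group
      _ = _ := by rw [hy]; group
  have heB : e ∈ Bad := (hbad _).2 (hey ▸ (mem_semiGroup.1 (Sg.mul_mem (Sg.mul_mem hyS
    (mem_semiGroup.2 ⟨X.mul_mem (X.mul_mem (X.inv_mem hg₀) (hRX a₁)) hg₀, (hbad _).1 ha₁⟩)) (Sg.inv_mem hyS))).2)
  -- the exceptional elements are multiples of one
  have hmem : e = 1 ∨ e = a₁ ∨ e = a₁⁻¹ := by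
    by_contra hc
    push Not at hc
    have h4 : ({1, a₁, a₁⁻¹, e} : Finset (Multiplicative K)).card = 4 := by
      have h2 : a₁ ≠ a₁⁻¹ := fun h2 => ha₁1 (toAdd_eq_zero.1 (by
        have h5 := congrArg Multiplicative.toAdd h2
        rw [toAdd_inv, eq_neg_iff_add_eq_zero, ← two_mul] at h5
        exact (mul_eq_zero.1 h5).resolve_left S.two))
      rw [Finset.card_insert_of_notMem (by simp [ha₁1, Ne.symm ha₁1, Ne.symm hc.1, eq_comm (a := (1 : Multiplicative K))]),
        Finset.card_insert_of_notMem (by simp [h2, Ne.symm hc.2.1]),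
        Finset.card_insert_of_notMem (by simp [Ne.symm hc.2.2]), Finset.card_singleton]
    have h5 : ({1, a₁, a₁⁻¹, e} : Finset (Multiplicative K)).card ≤ Nat.card Bad := by
      rw [← Set.ncard_coe_finset]
      exact (Set.ncard_le_ncard (t := (Bad : Set (Multiplicative K))) (by
        simp [Set.insert_subset_iff, ha₁, Bad.inv_mem ha₁, Bad.one_mem, heB]) (Set.toFinite _)).trans_eq
        (Nat.card_coe_set_eq _).symm
    omega
  have ha0 : a₁.toAdd ≠ 0 := fun h0 => ha₁1 (toAdd_eq_zero.1 h0)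
  have hij : i = j := by
    refine hb i j ?_
    set r := b j * b j / (b i * b i) with hr'
    have hr2 : r * r = 1 := by
      rcases hmem with h1 | h1 | h1 <;> have h1 := congrArg Multiplicative.toAdd h1 <;>
        simp only [he, toAdd_ofAdd, toAdd_one, toAdd_inv] at h1
      · exact absurd ((mul_eq_zero.1 h1).resolve_right ha0) (div_ne_zero (mul_ne_zero (hb0 j) (hb0 j)) hbi)
      · rw [mul_eq_right₀ ha0] at h1; rw [h1, one_mul]
      · have h2 : r = -1 := mul_right_cancel₀ ha0 (by rw [h1]; ring)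
        rw [h2]; ring
    rw [hr'] at hr2
    field_simp at hr2
    exact ((div_eq_one_iff_eq (pow_ne_zero _ (hb0 i))).1 hr2).symm
  subst hij
  have hc : c⁻¹ * c' ∈ Bad := (hbad _).2 (by
    rw [map_mul, map_inv]; convert h using 1; rw [hy]; group)
  rw [← QuotientGroup.out_eq' p, ← QuotientGroup.out_eq' q, QuotientGroup.eq.2 hc]

/-- Two independent vectors of a singular line go to singular vectors. -/
theorem NoT.exists_two (hN : S.NoT X) (hm : finrank K V = 3) (hr : (finrank F K).Prime) (h3 : 3 ≤ finrank F K)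
    (hX : S.Over X) {g₀ : O Q} (hg₀ : g₀ ∈ X) (hns₀ : ¬Semi K g₀) :
    ∃ g ∈ X, ¬Semi K g ∧ ∃ (x : V) (κ : K), x ≠ 0 ∧ S.QK x = 0 ∧ (∀ c : F, κ ≠ algebraMap F K c) ∧
      S.QK ((g : V ≃ₗ[F] V) x) = 0 ∧ S.QK ((g : V ≃ₗ[F] V) (κ • x)) = 0 := by
  classical
  by_contra hcon
  push Not at hcon
  have : Finite (O Q) := finite_O
  have : Finite V := Module.finite_of_finite F
  have := Fintype.ofFinite V
  have hq : 2 ≤ Nat.card F := Finite.one_lt_card
  have hKq : Nat.card K = Nat.card F ^ finrank F K := Module.natCard_eq_pow_finrank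
  have hq3 : Nat.card F ^ 3 ≤ Nat.card K := hKq ▸ Nat.pow_le_pow_right (by omega) h3
  have hK27 : 27 ≤ Nat.card K := S.card_field_ge h3
  have hqQ : Nat.card F < Nat.card K := by
    refine lt_of_lt_of_le ?_ hq3
    calc Nat.card F = Nat.card F ^ 1 := (pow_one _).symm
      _ < Nat.card F ^ 3 := Nat.pow_lt_pow_right hq (by norm_num)
  obtain ⟨u, hu0, hu⟩ := S.nd.exists_singular (by omega)
  obtain ⟨f, p⟩ := exists_pair hu hu0
  obtain ⟨z₀, t⟩ := exists_tri hm p
  set Sg := semiGroup K X with hSg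
  -- the index
  have hindex : (Nat.card K + 1) * Nat.card (Sg.subgroupOf X) ≤ Nat.card X := by
    rw [← Subgroup.index_mul_card (Sg.subgroupOf X)]
    refine Nat.mul_le_mul_right _ ?_
    rw [Subgroup.index_eq_card]
    exact hN.index_ge hm hr h3 hK27 hX t hg₀ hns₀
  -- the two sets
  set A : Finset V := Finset.univ.filter fun x => x ≠ 0 ∧ S.QK x = 0 with hA
  set Z : Finset V := Finset.univ.filter fun x => x ≠ 0 ∧ Q x = 0 with hZ
  have hcard : ∀ (P : V → Prop), P 0 → (Finset.univ.filter fun x => x ≠ 0 ∧ P x).card + 1 = Nat.card {x // P x} := by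
    intro P hP
    have he : (Finset.univ.filter fun x => x ≠ 0 ∧ P x) = (Finset.univ.filter P).erase 0 := by
      ext x; simp
    rw [he, Finset.card_erase_add_one (by simp [hP]), Nat.card_eq_fintype_card, Fintype.card_subtype]
  have hAc : A.card + 1 = Nat.card K ^ 2 := by
    rw [hA, hcard (fun x => S.QK x = 0) (QuadraticMap.map_zero _)]
    refine Nat.eq_of_mul_eq_mul_left (Nat.card_pos : 0 < Nat.card K) ?_
    rw [card_zero_odd S.nd (by rw [hm]; decide), hm]
    ring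
  have hZc : Nat.card F * (Z.card + 1) = Nat.card K ^ 3 := by
    rw [hZ, hcard (fun x => Q x = 0) (QuadraticMap.map_zero _), card_zero_odd S.nondeg, hKq, ← pow_mul,
      ← Module.finrank_mul_finrank F K V, hm]
    rw [← Module.finrank_mul_finrank F K V, hm]
    exact (hr.odd_of_ne_two (by omega)).mul (by decide)
  -- the overlap
  have := Fintype.ofFinite X
  have := Fintype.ofFinite K
  have := Fintype.ofFinite F
  let P : X → Finset V := fun g => A.filter fun x => ((g : O Q) : V ≃ₗ[F] V) x ∈ A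
  have hcs : Nat.card X * A.card ^ 2 ≤ Z.card * ∑ g : X, (P g).card := by
    rw [Nat.card_eq_fintype_card]
    exact exists_le_overlap (G := X) A Z fun g x hx => by
      show ((g : O Q) : V ≃ₗ[F] V) x ∈ Z
      simp only [hA, hZ, Finset.mem_filter, Finset.mem_univ, true_and] at hx ⊢
      exact ⟨fun h => hx.1 ((LinearEquiv.map_eq_zero_iff _).1 h), by rw [O.map_app, S.sing hx.2]⟩
  set L := (Nat.card K + 1) * (Nat.card F - 1) with hL
  have hPle : ∀ g : X, ¬Semi K (g : O Q) → (P g).card ≤ L := by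
    intro g hns
    refine Nat.le_of_mul_le_mul_right ?_ (show 0 < Nat.card K - 1 by omega)
    let T : Finset (V × Kˣ) := (P g) ×ˢ Finset.univ
    have hT : T.card = (P g).card * (Nat.card K - 1) := by
      rw [Finset.card_product, Finset.card_univ, Fintype.card_units, Nat.card_eq_fintype_card]
    have himg : T.image (fun p => (p.2 : K) • p.1) ⊆ A := by
      intro y hy
      obtain ⟨⟨x, k⟩, hxk, rfl⟩ := Finset.mem_image.1 hy
      have hx := (Finset.mem_filter.1 (Finset.mem_product.1 hxk).1).1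
      simp only [hA, Finset.mem_filter, Finset.mem_univ, true_and] at hx ⊢
      exact ⟨smul_ne_zero k.ne_zero hx.1, S.sing_smul hx.2 _⟩
    have hfib : ∀ y ∈ T.image (fun p => (p.2 : K) • p.1), (T.filter fun p => (p.2 : K) • p.1 = y).card ≤ Nat.card F - 1 := by
      intro y hy
      obtain ⟨⟨x₀, k₀⟩, hxk, rfl⟩ := Finset.mem_image.1 hy
      simp only [T, P, hA, Finset.mem_product, Finset.mem_filter, Finset.mem_univ, true_and, and_true] at hxk
      obtain ⟨⟨hx0, hx⟩, -, hgx⟩ := hxk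
      rw [Nat.card_eq_fintype_card, ← Fintype.card_units, ← Finset.card_univ]
      refine le_trans (Finset.card_le_card (t := Finset.univ.image fun c : Fˣ =>
        ((algebraMap F K (c : F)) • x₀, k₀ * (Units.map (algebraMap F K).toMonoidHom c)⁻¹)) fun p hp => ?_)
        Finset.card_image_le
      obtain ⟨x, k⟩ := p
      simp only [T, P, hA, Finset.mem_product, Finset.mem_filter, Finset.mem_univ, true_and, and_true] at hp
      obtain ⟨⟨⟨hxne, hxs⟩, -, hgxs⟩, hpe⟩ := hp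
      have hxe : x = ((k : K)⁻¹ * k₀) • x₀ := by rw [mul_smul, ← hpe, inv_smul_smul₀ k.ne_zero]
      obtain ⟨c, hc⟩ : ∃ c : F, (k : K)⁻¹ * k₀ = algebraMap F K c := by
        by_contra hne
        push Not at hne
        exact hcon _ g.2 hns x₀ _ hx0 hx hne hgx (by rw [← hxe]; exact hgxs)
      have hc0 : c ≠ 0 := fun h0 => hxne (by rw [hxe, hc, h0, map_zero, zero_smul])
      refine Finset.mem_image.2 ⟨Units.mk0 c hc0, Finset.mem_univ _, Prod.ext ?_ (Units.ext ?_)⟩
      · rw [hxe, hc]; rfl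
      · show (k₀ : K) * (((Units.map (algebraMap F K).toMonoidHom (Units.mk0 c hc0))⁻¹ : Kˣ) : K) = k
        rw [Units.val_inv_eq_inv_val]
        show (k₀ : K) * (algebraMap F K c)⁻¹ = k
        rw [← hc]
        field_simp
    have := Finset.card_le_mul_card_image T (Nat.card F - 1) hfib
    rw [hT] at this
    refine this.trans ?_
    have h1 := Finset.card_le_card himg
    calc (Nat.card F - 1) * (T.image fun p => (p.2 : K) • p.1).card ≤ (Nat.card F - 1) * A.card := Nat.mul_le_mul_left _ h1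
      _ = L * (Nat.card K - 1) := by
        obtain ⟨b, hb⟩ : ∃ b, Nat.card K = b + 1 := ⟨Nat.card K - 1, by omega⟩
        rw [hL, hb, Nat.add_sub_cancel]
        have : A.card = (b + 1 + 1) * b := by rw [hb] at hAc; linarith [show (b + 1) ^ 2 = (b + 1 + 1) * b + 1 by ring]
        rw [this]; ring
  -- the inequality
  set Ps := Finset.univ.filter fun g : X => Semi K (g : O Q) with hPs
  have hs : Ps.card = Nat.card (Sg.subgroupOf X) := by
    rw [Nat.card_eq_fintype_card, Fintype.card_subtype]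
    congr 1
    ext g
    simp [hPs, Subgroup.mem_subgroupOf, hSg, mem_semiGroup, g.2]
  have hsum : (∑ g : X, (P g).card) + Ps.card * L ≤ Ps.card * A.card + Nat.card X * L := by
    rw [← Finset.sum_filter_add_sum_filter_not Finset.univ (fun g : X => Semi K (g : O Q))]
    have h1 := Finset.sum_le_card_nsmul Ps (fun g => (P g).card) A.card fun g _ => Finset.card_le_card (Finset.filter_subset _ _)
    have h2 := Finset.sum_le_card_nsmul (Finset.univ.filter fun g : X => ¬Semi K (g : O Q)) (fun g => (P g).card) L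
      fun g hg => hPle g (Finset.mem_filter.1 hg).2
    have h3 := Finset.card_filter_add_card_filter_not (s := (Finset.univ : Finset X)) (fun g : X => Semi K (g : O Q))
    rw [Finset.card_univ, ← Nat.card_eq_fintype_card, ← hPs] at h3
    rw [smul_eq_mul] at h1 h2
    rw [← hPs]
    rw [← h3, add_mul]
    omega
  refine no_count hq hqQ hZc hAc ?_ Nat.card_pos hcs (s := Ps.card) hsum
  rw [hs]
  exact hindex

end EStr

end Cfsg.Agent.H57.ExtOrth
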