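import Cfsg.Agent.H57.ExtOrth.Three.Count
import Cfsg.Agent.Frobenius.Sylow

/-!
In dimension three an overgroup with an element that is not semilinear moves along every singular line.
-/

set_option autoImplicit false

namespace Cfsg.Agent.H57.ExtOrth

open QuadraticMap Module Cfsg.Agent.Orthogonal Pointwise

variable {F K V : Type*} [Field F] [Field K] [Algebra F K] [AddCommGroup V] [Module F V] [Module K V]
  {Q : QuadraticForm F V}

/-- In a field of prime degree at least three quadratic elements are scalars. -/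
theorem exists_eq_algebraMap_of_quadratic [FiniteDimensional F K] (hr : (finrank F K).Prime) (h3 : 3 ≤ finrank F K)
    {x : K} {b c : F} (h : x * x + algebraMap F K b * x + algebraMap F K c = 0) : ∃ d : F, x = algebraMap F K d := by
  by_contra hne
  push Not at hne
  have := Subalgebra.isSimpleOrder_of_finrank_prime F K hr
  have hx : IsIntegral F x := IsIntegral.of_finite F x
  rcases eq_bot_or_eq_top (Algebra.adjoin F {x}) with hA | hA
  · have h1 : x ∈ Algebra.adjoin F {x} := Algebra.self_mem_adjoin_singleton F x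
    rw [hA, Algebra.mem_bot] at h1
    obtain ⟨d, hd⟩ := h1
    exact hne d hd.symm
  · let W : Submodule F K := Submodule.span F {1, x}
    have hW : ∀ y ∈ W, x * y ∈ W := fun y hy => by
      induction hy using Submodule.span_induction with
      | mem y hy =>
        rcases hy with rfl | rfl
        · rw [mul_one]; exact Submodule.subset_span (by simp)
        · rw [show y * y = (-b) • y + (-c) • (1 : K) by rw [Algebra.smul_def, Algebra.smul_def, map_neg, map_neg, mul_one]; linear_combination h]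
          exact W.add_mem (W.smul_mem _ (Submodule.subset_span (by simp))) (W.smul_mem _ (Submodule.subset_span (by simp)))
      | zero => rw [mul_zero]; exact W.zero_mem
      | add a a' _ _ ha ha' => rw [mul_add]; exact W.add_mem ha ha'
      | smul s a _ ha => rw [mul_smul_comm]; exact W.smul_mem _ ha
    have hall : ∀ y : K, ∀ w ∈ W, y * w ∈ W := fun y => by
      have hy : y ∈ Algebra.adjoin F {x} := hA ▸ Algebra.mem_top
      induction hy using Algebra.adjoin_induction with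
      | mem y hy => rw [Set.mem_singleton_iff.1 hy]; exact hW
      | algebraMap s => intro w hw; rw [← Algebra.smul_def]; exact W.smul_mem _ hw
      | add a a' _ _ ha ha' => intro w hw; rw [add_mul]; exact W.add_mem (ha w hw) (ha' w hw)
      | mul a a' _ _ ha ha' => intro w hw; rw [mul_assoc]; exact ha _ (ha' w hw)
    have htop : (⊤ : Submodule F K) ≤ W := fun y _ => by
      simpa using hall y 1 (Submodule.subset_span (by simp))
    have h4 := Submodule.finrank_mono htop
    have h5 : finrank F W ≤ 2 := by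
      classical
      have h6 := finrank_span_finset_le_card (R := F) ({1, x} : Finset K)
      rw [Finset.coe_pair] at h6
      exact h6.trans Finset.card_le_two
    rw [finrank_top] at h4
    omega

/-- An automorphism of a field of prime degree at least three with a scalar norm on an element fixes it or the element is a
scalar. -/
theorem exists_eq_algebraMap_of_norm [FiniteDimensional F K] (hr : (finrank F K).Prime) (h3 : 3 ≤ finrank F K)
    (σ : K ≃ₐ[F] K) {x : K} {c : F} (hx : σ x * x = algebraMap F K c) : ∃ d : F, x = algebraMap F K d := by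
  rcases eq_or_ne x 0 with rfl | hx0
  · exact ⟨0, (map_zero _).symm⟩
  have h2 : σ (σ x) = x := by
    have h := congrArg σ hx
    rw [map_mul, AlgEquiv.commutes, ← hx, mul_comm (σ x) x] at h
    exact mul_right_cancel₀ (fun h0 => hx0 ((map_eq_zero_iff σ σ.injective).1 h0)) h
  let Fix : Subalgebra F K :=
    { carrier := {k | σ k = k}
      mul_mem' := fun {a b} ha hb => by
        show σ (a * b) = a * b
        rw [map_mul, ha, hb]
      add_mem' := fun {a b} ha hb => by
        show σ (a + b) = a + b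
        rw [map_add, ha, hb]
      algebraMap_mem' := fun c => σ.commutes c }
  have := Subalgebra.isSimpleOrder_of_finrank_prime F K hr
  rcases eq_bot_or_eq_top Fix with hF | hF
  · have h : x + σ x ∈ Fix := by
      show σ (x + σ x) = x + σ x
      rw [map_add, h2, add_comm]
    rw [hF, Algebra.mem_bot] at h
    obtain ⟨b, hb⟩ := h
    exact exists_eq_algebraMap_of_quadratic hr h3 (b := -b) (c := c) (by rw [map_neg, hb, ← hx]; ring)
  · have h : σ x = x := show x ∈ Fix from hF ▸ Algebra.mem_top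
    exact exists_eq_algebraMap_of_quadratic hr h3 (b := 0) (c := -c) (by rw [map_neg, map_zero, ← hx, h]; ring)

namespace EStr

variable {S : EStr Q K} [IsScalarTower F K V] [FiniteDimensional F K] [FiniteDimensional K V] [FiniteDimensional F V]
  [Finite F] [Finite K] {X : Subgroup (O Q)}

/-- An element exchanging two singular vectors on a line up to scalars of the ground field. -/
theorem exists_exchange (hm : finrank K V = 3) (hr : (finrank F K).Prime) (h3 : 3 ≤ finrank F K) {v₁ v₂ : V}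
    (h1 : S.QK v₁ = 0) (h2 : S.QK v₂ = 0) (hb : S.B v₁ v₂ ≠ 0) :
    ∃ n ∈ commutator (O S.QK), ∃ c : F, c ≠ 0 ∧ (n : V ≃ₗ[K] V) v₁ = c • v₂ ∧ (n : V ≃ₗ[K] V) v₂ = c⁻¹ • v₁ := by
  set β := S.B v₁ v₂ with hβ
  have p : S.Pair v₁ (β⁻¹ • v₂) := ⟨h1, by rw [qmap_smul, h2, mul_zero],
    by rw [B, polar_smul_right', ← B, ← hβ, inv_mul_cancel₀ hb]⟩
  obtain ⟨z₀, t⟩ := exists_tri hm p
  have hF2 : (2 : F) ≠ 0 := fun h0 => S.two (by rw [← map_ofNat (algebraMap F K) 2, h0, map_zero])
  obtain ⟨c, hc0, hcls⟩ : ∃ c : F, c ≠ 0 ∧ (IsSquare (S.QK z₀) ↔ IsSquare (-(algebraMap F K c * β))) := by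
    obtain ⟨ε, hε⟩ := FiniteField.exists_nonsquare (F := F) (by
      intro h2'
      have := ringChar.of_eq h2'
      exact hF2 CharTwo.two_eq_zero)
    have hε0 : ε ≠ 0 := fun h0 => hε (h0 ▸ IsSquare.zero)
    have hεK : ¬IsSquare (algebraMap F K ε) := by
      rintro ⟨s, hs⟩
      obtain ⟨d, rfl⟩ := exists_eq_algebraMap_of_quadratic hr h3 (x := s) (b := 0) (c := -ε) (by
        rw [map_zero, map_neg, hs]; ring)
      rw [← map_mul] at hs
      exact hε ⟨d, (algebraMap F K).injective hs⟩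
    by_cases h : IsSquare (S.QK z₀) ↔ IsSquare (-β)
    · exact ⟨1, one_ne_zero, by rwa [map_one, one_mul]⟩
    · refine ⟨ε, hε0, ?_⟩
      rw [← mul_neg, isSquare_mul_iff S.two (by simpa using hε0) (neg_ne_zero.2 hb)]
      tauto
  set b := algebraMap F K c * β with hbd
  have hb0 : b ≠ 0 := mul_ne_zero (by simpa using hc0) hb
  set d := v₁ - b • (β⁻¹ • v₂) with hd
  have hQd : S.QK d = -b := by
    rw [hd, qmap_sub, qmap_smul, p.su, p.sf, polar_smul_right', show polar S.QK v₁ (β⁻¹ • v₂) = 1 from p.uf]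
    ring
  have hbv : b • (β⁻¹ • v₂) = c • v₂ := by
    rw [smul_smul, hbd, mul_assoc, mul_inv_cancel₀ hb, mul_one, algebraMap_smul]
  refine ⟨rO S.QK z₀ * rO S.QK d, ?_, c, hc0, ?_, ?_⟩
  · rw [mem_commutator_iff S.nd S.two, map_mul, map_mul, detSign_rO S.nd S.two t.zq,
      detSign_rO S.nd S.two (v := d) (by rw [hQd]; exact neg_ne_zero.2 hb0), spinor_rO S.nd S.two t.zq,
      spinor_rO S.nd S.two (v := d) (by rw [hQd]; exact neg_ne_zero.2 hb0), hQd]
    refine ⟨by simp, ?_⟩
    by_cases hs : IsSquare (S.QK z₀)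
    · rw [sqSign_of_isSquare hs, sqSign_of_isSquare (hcls.1 hs), one_mul]
    · rw [sqSign_of_not_isSquare hs, sqSign_of_not_isSquare fun h => hs (hcls.2 h)]; simp
  · have hsw : (rO S.QK d : V ≃ₗ[K] V) v₁ = b • (β⁻¹ • v₂) :=
      rO_sub_swap (by rw [qmap_smul, p.su, p.sf, mul_zero]) (by rw [← hd, hQd]; exact neg_ne_zero.2 hb0)
    rw [Subgroup.coe_mul, mul_app, hsw, map_smul, rO_fix t.zf', hbv]
  · have hsw : (rO S.QK d : V ≃ₗ[K] V) v₁ = b • (β⁻¹ • v₂) :=
      rO_sub_swap (by rw [qmap_smul, p.su, p.sf, mul_zero]) (by rw [← hd, hQd]; exact neg_ne_zero.2 hb0)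
    have hsw' : (rO S.QK d : V ≃ₗ[K] V) (c • v₂) = v₁ := by
      rw [← hbv, ← hsw, ← mul_app, ← Subgroup.coe_mul, rO_mul_self]; rfl
    rw [← algebraMap_smul K c v₂, map_smul] at hsw'
    apply smul_right_injective V (show algebraMap F K c ≠ 0 by simpa using hc0)
    simp only
    rw [← map_smul, Subgroup.coe_mul, mul_app, map_smul, hsw', algebraMap_smul, smul_inv_smul₀ hc0, rO_fix t.zu']

/-- Some element keeps a plane over the ground field on a singular line and moves the line. -/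
theorem NoT.exists_plane (hN : S.NoT X) (hm : finrank K V = 3) (hr : (finrank F K).Prime) (h3 : 3 ≤ finrank F K)
    (hX : S.Over X) {g₀ : O Q} (hg₀ : g₀ ∈ X) (hns₀ : ¬Semi K g₀) :
    ∃ h ∈ X, ∃ (x : V) (κ a b : K), x ≠ 0 ∧ S.QK x = 0 ∧ (∀ c : F, κ ≠ algebraMap F K c) ∧
      (h : V ≃ₗ[F] V) x = a • x ∧ (h : V ≃ₗ[F] V) (κ • x) = b • x ∧ ¬KeepsLine K h x := by
  obtain ⟨g, hg, hns, x, κ, hx0, hx, hκ, hgx, hgκ⟩ := hN.exists_two hm hr h3 hX hg₀ hns₀
  have hK : 27 ≤ Nat.card K := S.card_field_ge h3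
  set v₁ := (g : V ≃ₗ[F] V) x with hv₁
  set v₂ := (g : V ≃ₗ[F] V) (κ • x) with hv₂
  have hv₁0 : v₁ ≠ 0 := fun h => hx0 ((LinearEquiv.map_eq_zero_iff _).1 h)
  obtain ⟨f, p⟩ := exists_pair hgx hv₁0
  obtain ⟨z, t⟩ := exists_tri hm p
  by_cases hB : S.B v₁ v₂ = 0
  · obtain ⟨j, hj⟩ := t.mem_line hgκ hB
    obtain ⟨n, hn, s, hs, hns'⟩ := exists_point hm.ge hgx hv₁0 hx hx0
    have hh₂ : ((S.res n * g : O Q) : V ≃ₗ[F] V) (κ • x) = (j * s) • x := by
      rw [Subgroup.coe_mul, mul_app, ← hv₂, hj, res_app, map_smul, hns', smul_smul]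
    have hh₁ : ((S.res n * g : O Q) : V ≃ₗ[F] V) x = s • x := by rw [Subgroup.coe_mul, mul_app, ← hv₁, res_app, hns']
    refine ⟨S.res n * g, X.mul_mem (hX.res_mem hn) hg, x, κ, s, j * s, hx0, hx, hκ, hh₁, hh₂, fun hk => ?_⟩
    exact hns (semi_res_mul (hN.semi hm.ge hK hX (X.mul_mem (hX.res_mem hn) hg) hx0 hx
      (by rw [hh₁]; exact S.sing_smul hx s) hk))
  obtain ⟨n, hn, c, hc, hn1, hn2⟩ := exists_exchange hm hr (by omega) hgx hgκ hB
  set h := g⁻¹ * S.res n * g with hh
  have hhX : h ∈ X := X.mul_mem (X.mul_mem (X.inv_mem hg) (hX.res_mem hn)) hg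
  have hh₁ : (h : V ≃ₗ[F] V) x = (algebraMap F K c * κ) • x := by
    rw [hh, Subgroup.coe_mul, mul_app, Subgroup.coe_mul, mul_app, ← hv₁, res_app, hn1, map_smul, hv₂, inv_app, mul_smul,
      algebraMap_smul]
  have hh₂ : (h : V ≃ₗ[F] V) (κ • x) = algebraMap F K c⁻¹ • x := by
    rw [hh, Subgroup.coe_mul, mul_app, Subgroup.coe_mul, mul_app, ← hv₂, res_app, hn2, map_smul, hv₁, inv_app,
      algebraMap_smul]
  refine ⟨h, hhX, x, κ, _, _, hx0, hx, hκ, hh₁, hh₂, fun hk => ?_⟩
  obtain ⟨σ, hσ⟩ := (hN.semi hm.ge hK hX hhX hx0 hx (by rw [hh₁]; exact S.sing_smul hx _) hk).exists_aut hx0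
  have h1 := hσ κ x
  rw [hh₂, hh₁, smul_smul] at h1
  have h2 := smul_left_injective K hx0 h1
  obtain ⟨d, hd⟩ := exists_eq_algebraMap_of_norm hr (by omega) σ (x := κ) (c := c⁻¹ * c⁻¹) (by
    rw [map_mul]
    conv_rhs => arg 1; rw [h2]
    rw [map_inv₀]
    have : algebraMap F K c ≠ 0 := by simpa using hc
    field_simp)
  exact hκ d hd

/-- Without elements moving along lines there is a contradiction. -/
theorem NoT.false (hN : S.NoT X) (hm : finrank K V = 3) (hr : (finrank F K).Prime) (h3 : 3 ≤ finrank F K)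
    (hX : S.Over X) (hXc : X ≤ commutator (O Q)) {g₀ : O Q} (hg₀ : g₀ ∈ X) (hns₀ : ¬Semi K g₀) : False := by
  obtain ⟨h, hh, x, κ, a, b, hx0, hx, hκ, hha, hhb, hne⟩ := hN.exists_plane hm hr h3 hX hg₀ hns₀
  have hK : 27 ≤ Nat.card K := S.card_field_ge h3
  have : Finite (O Q) := finite_O
  have ha : a ≠ 0 := fun h0 => hx0 ((LinearEquiv.map_eq_zero_iff _).1 (by rw [hha, h0, zero_smul]))
  obtain ⟨f, p⟩ := exists_pair hx hx0
  obtain ⟨z₀, t⟩ := exists_tri hm p
  let Γ : Subgroup (O Q) :=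
    { carrier := {γ | γ ∈ X ∧ (γ : V ≃ₗ[F] V) (a • x) = a • x ∧ (γ : V ≃ₗ[F] V) (b • x) = b • x}
      mul_mem' := fun {γ δ} hγ hδ => ⟨X.mul_mem hγ.1 hδ.1, by rw [Subgroup.coe_mul, mul_app, hδ.2.1, hγ.2.1],
        by rw [Subgroup.coe_mul, mul_app, hδ.2.2, hγ.2.2]⟩
      one_mem' := ⟨X.one_mem, rfl, rfl⟩
      inv_mem' := fun {γ} hγ => ⟨X.inv_mem hγ.1, by conv_lhs => rw [← hγ.2.1, inv_app],
        by conv_lhs => rw [← hγ.2.2, inv_app]⟩ }
  have hΓ : ∀ γ, γ ∈ Γ ↔ γ ∈ X ∧ (γ : V ≃ₗ[F] V) (a • x) = a • x ∧ (γ : V ≃ₗ[F] V) (b • x) = b • x := fun γ => Iff.rfl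
  have hRΓ : ∀ e, t.R e ∈ Γ := fun e => (hΓ _).2 ⟨by rw [t.R_eq]; exact hX.E_mem _ _, t.R_u e a, t.R_u e b⟩
  -- fixed lines
  have hline : ∀ (γ : O Q) (e e' : Multiplicative K), e ≠ 1 → e' ≠ 1 → γ * t.R e * γ⁻¹ = t.R e' →
      ∀ k : K, ∃ j : K, (γ : V ≃ₗ[F] V) (k • x) = j • x := fun γ e e' he he' heq k => by
    refine t.R_fixed he' ?_
    rw [← heq, Subgroup.coe_mul, mul_app, Subgroup.coe_mul, mul_app, inv_app, t.R_u]
  have hne1 : ∀ k : K, k ≠ 0 → Multiplicative.ofAdd k ≠ 1 := fun k hk h => hk (ofAdd_eq_one.1 h)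
  set P : Subgroup Γ := t.R.range.subgroupOf Γ with hP
  have hFC : IsFrobeniusComplement P := by
    refine ⟨fun h0 => ?_, fun h0 => ?_, fun γ hγ => ?_⟩
    · have h1 : (⟨t.R (Multiplicative.ofAdd 1), hRΓ _⟩ : Γ) ∈ P := Subgroup.mem_subgroupOf.2 ⟨_, rfl⟩
      rw [h0, Subgroup.mem_bot] at h1
      exact hne1 1 one_ne_zero (t.R_injective ((congrArg Subtype.val h1).trans (map_one t.R).symm))
    · set e := Multiplicative.ofAdd (1 : K) with he
      have hmem : h * t.R e * h⁻¹ ∈ Γ := by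
        refine (hΓ _).2 ⟨X.mul_mem (X.mul_mem hh (by rw [t.R_eq]; exact hX.E_mem _ _)) (X.inv_mem hh), ?_, ?_⟩
        · rw [Subgroup.coe_mul, mul_app, Subgroup.coe_mul, mul_app, ← hha, inv_app,
            show (t.R e : V ≃ₗ[F] V) x = x by simpa using t.R_u e 1]
        · rw [Subgroup.coe_mul, mul_app, Subgroup.coe_mul, mul_app, ← hhb, inv_app, t.R_u]
      have h1 : (⟨_, hmem⟩ : Γ) ∈ P := h0 ▸ Subgroup.mem_top _
      obtain ⟨e', he'⟩ := Subgroup.mem_subgroupOf.1 h1
      have he'1 : e' ≠ 1 := fun h2 => by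
        rw [h2, map_one] at he'
        have h3 := eq_inv_of_mul_eq_one_left he'.symm
        rw [inv_inv] at h3
        exact hne1 1 one_ne_zero (t.R_injective ((mul_eq_left (a := h)).1 h3 |>.trans (map_one t.R).symm))
      choose φ hφ using hline h e e' (hne1 1 one_ne_zero) he'1 he'.symm
      refine hne fun k => ⟨φ k / a, ?_⟩
      rw [hφ, hha, smul_smul, div_mul_cancel₀ _ ha]
    · rw [Subgroup.eq_bot_iff_forall]
      rintro e' ⟨he'1, he'2⟩
      replace he'2 : e' ∈ MulAut.conj γ • P := he'2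
      rw [Subgroup.mem_pointwise_smul_iff_inv_smul_mem] at he'2
      obtain ⟨e₁, he₁⟩ := Subgroup.mem_subgroupOf.1 he'1
      obtain ⟨e₂, he₂⟩ := Subgroup.mem_subgroupOf.1 he'2
      by_contra hne'
      rw [← map_inv, MulAut.smul_def, MulAut.conj_apply, inv_inv] at he₂
      have he₁1 : e₁ ≠ 1 := fun h2 => hne' (Subtype.ext (by rw [← he₁, h2, map_one]; rfl))
      have he₂1 : e₂ ≠ 1 := fun h2 => hne' (by
        rw [h2, map_one] at he₂
        have h3 : γ⁻¹ * e' * γ = 1 := Subtype.ext he₂.symm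
        rw [mul_assoc, inv_mul_eq_one] at h3
        exact (mul_eq_right (b := γ)).1 h3.symm)
      have heq : (γ : O Q) * t.R e₂ * (γ : O Q)⁻¹ = t.R e₁ := by
        rw [he₁, he₂]
        simp only [Subgroup.coe_mul, Subgroup.coe_inv]
        group
      obtain ⟨hγX, hγa, hγb⟩ := (hΓ _).1 γ.2
      choose φ hφ using hline γ e₂ e₁ he₂1 he₁1 heq
      have hγx : ((γ : O Q) : V ≃ₗ[F] V) x = φ 1 • x := by rw [← hφ 1, one_smul]
      have hφ0 : φ 1 ≠ 0 := fun h2 => hx0 ((LinearEquiv.map_eq_zero_iff _).1 (by rw [hγx, h2, zero_smul]))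
      obtain ⟨σ, hσ⟩ := (hN.semi hm.ge hK hX hγX hx0 hx (by rw [hγx]; exact S.sing_smul hx _) fun k =>
        ⟨φ k / φ 1, by rw [hφ, hγx, smul_smul, div_mul_cancel₀ _ hφ0]⟩).exists_aut hx0
      have hba : σ (b / a) = b / a := by
        have h1 := hσ (b / a) (a • x)
        rw [smul_smul, div_mul_cancel₀ _ ha, hγb, hγa, smul_smul] at h1
        exact mul_right_cancel₀ ha ((smul_left_injective K hx0 h1).symm.trans (div_mul_cancel₀ b ha).symm)
      have hlin : ∀ k, σ k = k := by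
        let Fix : Subalgebra F K :=
          { carrier := {k | σ k = k}
            mul_mem' := fun {a b} ha hb => by
              show σ (a * b) = a * b
              rw [map_mul, ha, hb]
            add_mem' := fun {a b} ha hb => by
              show σ (a + b) = a + b
              rw [map_add, ha, hb]
            algebraMap_mem' := fun c => σ.commutes c }
        have := Subalgebra.isSimpleOrder_of_finrank_prime F K hr
        rcases eq_bot_or_eq_top Fix with hF | hF
        · exfalso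
          have h1 : b / a ∈ Fix := hba
          rw [hF, Algebra.mem_bot] at h1
          obtain ⟨c, hc⟩ := h1
          refine hκ c (smul_left_injective K hx0 ((h : V ≃ₗ[F] V).injective ?_))
          show (h : V ≃ₗ[F] V) (κ • x) = (h : V ≃ₗ[F] V) (algebraMap F K c • x)
          rw [hhb, algebraMap_smul, map_smul, hha, ← algebraMap_smul K c, smul_smul, hc, div_mul_cancel₀ b ha]
        · exact fun k => show k ∈ Fix from hF ▸ Algebra.mem_top
      refine hγ (Subgroup.mem_subgroupOf.2 (t.mem_R (hr.odd_of_ne_two (by omega)) (hXc hγX)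
        (fun k v => by rw [hσ, hlin]) ?_))
      have h1 := hσ a x
      rw [hγa, hlin] at h1
      exact smul_right_injective V ha h1.symm
  -- a noncyclic radical group
  have : CharP K (ringChar K) := ringChar.charP K
  have hp : Fact (ringChar K).Prime := ⟨CharP.char_is_prime K (ringChar K)⟩
  have hpow : ∀ e : Multiplicative K, t.R e ^ ringChar K = 1 := fun e => by
    rw [← map_pow, ← map_one t.R]
    congr 1
    rw [← toAdd_eq_zero, toAdd_pow, nsmul_eq_mul, CharP.cast_eq_zero, zero_mul]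
  have hPp : IsPGroup (ringChar K) P := fun e => ⟨1, by
    obtain ⟨e', he'⟩ := Subgroup.mem_subgroupOf.1 e.2
    refine Subtype.ext (Subtype.ext ?_)
    rw [pow_one, SubmonoidClass.coe_pow, SubmonoidClass.coe_pow, ← he', hpow]; rfl⟩
  let mk : K → P := fun k => ⟨⟨t.R (Multiplicative.ofAdd k), hRΓ _⟩, Subgroup.mem_subgroupOf.2 ⟨_, rfl⟩⟩
  have hord : ∀ k : K, k ≠ 0 → orderOf (mk k) = ringChar K := fun k hk =>
    orderOf_eq_prime (Subtype.ext (Subtype.ext (by rw [SubmonoidClass.coe_pow, SubmonoidClass.coe_pow]; exact hpow _)))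
      fun h1 => hne1 k hk (t.R_injective (((congrArg (fun y : P => ((y : Γ) : O Q)) h1)).trans (map_one t.R).symm))
  have hκ0 : κ ≠ 0 := fun h0 => hκ 0 (by rw [h0, map_zero])
  have huniq := Cfsg.Agent.Frobenius.unique_card_eq_prime hFC (P := P) le_rfl hPp (Subgroup.zpowers (mk 1))
    (Subgroup.zpowers (mk κ)) (by rw [Nat.card_zpowers, hord 1 one_ne_zero]) (by rw [Nat.card_zpowers, hord κ hκ0])
  obtain ⟨j, hj⟩ := Subgroup.mem_zpowers_iff.1 (show mk κ ∈ Subgroup.zpowers (mk 1) from huniq ▸ Subgroup.mem_zpowers _)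
  have hj' : (Multiplicative.ofAdd (1 : K)) ^ j = Multiplicative.ofAdd κ := t.R_injective (by
    rw [map_zpow]
    have := congrArg (fun y : P => ((y : Γ) : O Q)) hj
    simpa only [SubgroupClass.coe_zpow, mk] using this)
  have hj'' := congrArg Multiplicative.toAdd hj'
  rw [toAdd_zpow, toAdd_ofAdd, toAdd_ofAdd, zsmul_one] at hj''
  exact hκ j (by rw [map_intCast, hj''])

/-- Along every singular line the overgroup has a nontrivial element. -/
theorem exists_tin (hm : finrank K V = 3) (hr : (finrank F K).Prime) (h3 : 3 ≤ finrank F K) (hX : S.Over X)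
    (hXc : X ≤ commutator (O Q)) {g₀ : O Q} (hg₀ : g₀ ∈ X) (hns₀ : ¬Semi K g₀) {u : V} (hu0 : u ≠ 0)
    (hu : S.QK u = 0) : ∃ ν : K →ₗ[F] K, ν ≠ 0 ∧ S.TIn X u ν := by
  by_contra hcon
  refine NoT.false (fun v f p ν hν => ?_) hm hr h3 hX hXc hg₀ hns₀
  by_contra hν0
  obtain ⟨n, hn, s, hs, hns⟩ := exists_point hm.ge p.su p.ne_zero hu hu0
  refine hcon ⟨_, fun h0 => hν0 (LinearMap.ext fun k => ?_), hν.map hX hn hns⟩
  have h1 := LinearMap.congr_fun h0 (s⁻¹ * k)
  rw [LinearMap.comp_apply, LinearMap.comp_apply, LinearMap.mulLeft_apply, LinearMap.mulLeft_apply,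
    LinearMap.zero_apply, ← mul_assoc s, mul_inv_cancel₀ hs, one_mul] at h1
  rw [(mul_eq_zero.1 h1).resolve_left hs, LinearMap.zero_apply]

end EStr

end Cfsg.Agent.H57.ExtOrth
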