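import Cfsg.Agent.H57.ExtOrth.Three.Line
import Cfsg.Agent.H57.ExtOrth.Iterate

/-!
In dimension three the radical group acts freely on the cosets of the semilinear elements.
-/

set_option autoImplicit false

namespace Cfsg.Agent.H57.ExtOrth

open QuadraticMap Module Cfsg.Agent.Orthogonal

variable {F K V : Type*} [Field F] [Field K] [Algebra F K] [AddCommGroup V] [Module F V] [Module K V]
  [IsScalarTower F K V] {Q : QuadraticForm F V} {S : EStr Q K} {u f z₀ : V}

omit [Algebra F K] [IsScalarTower F K V] in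
theorem semi_mul {g h : O Q} (hg : Semi K g) (hh : Semi K h) : Semi K (g * h) := fun k => by
  obtain ⟨k', hk'⟩ := hh k
  obtain ⟨k'', hk''⟩ := hg k'
  exact ⟨k'', fun x => by rw [Subgroup.coe_mul, mul_app, mul_app, hk', hk'']⟩

omit [IsScalarTower F K V] in
omit [Algebra F K] in
theorem semi_one : Semi K (1 : O Q) := fun k => ⟨k, fun _ => rfl⟩

variable [FiniteDimensional F K]

variable (K) in
omit [IsScalarTower F K V] [FiniteDimensional F K] in
/-- The semilinear elements of a subgroup. -/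
def semiGroup (X : Subgroup (O Q)) : Subgroup (O Q) := Subgroup.closure {g | g ∈ X ∧ Semi K g}

omit [IsScalarTower F K V] [FiniteDimensional F K] in
theorem mem_semiGroup [IsScalarTower F K V] [Finite (O Q)] {X : Subgroup (O Q)} {g : O Q} :
    g ∈ semiGroup K X ↔ g ∈ X ∧ Semi K g := by
  refine ⟨fun h => ?_, fun h => Subgroup.subset_closure h⟩
  let M : Submonoid (O Q) :=
    { carrier := {g | g ∈ X ∧ Semi K g}
      mul_mem' := fun {a b} ha hb => ⟨X.mul_mem ha.1 hb.1, semi_mul ha.2 hb.2⟩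
      one_mem' := ⟨X.one_mem, semi_one⟩ }
  have hinv : ∀ {a : O Q}, a ∈ M → a⁻¹ ∈ M := fun {a} ha => by
    rw [show a⁻¹ = a ^ (orderOf a - 1) from inv_eq_of_mul_eq_one_right (by
      rw [← pow_succ', Nat.sub_add_cancel (orderOf_pos a), pow_orderOf_eq_one])]
    exact M.pow_mem ha _
  let Sg : Subgroup (O Q) := { M with inv_mem' := hinv }
  exact (Subgroup.closure_le Sg).2 (fun a ha => ha) h

namespace EStr

variable [FiniteDimensional K V] [Finite K] {X : Subgroup (O Q)}

/-- If a conjugate of a nontrivial radical element by an element that is not semilinear is semilinear, then it acts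
nontrivially on the field, which has degree three. -/
theorem NoT.conj_semi (hN : S.NoT X) (hm : finrank K V = 3) (hr : (finrank F K).Prime) (h3 : 3 ≤ finrank F K)
    (hK : 27 ≤ Nat.card K) (hX : S.Over X) (t : S.Tri u f z₀) {g : O Q} (hg : g ∈ X) (hns : ¬Semi K g)
    {a : Multiplicative K} (ha : a ≠ 1) (hM : Semi K (g⁻¹ * t.R a * g)) :
    finrank F K ≤ 3 ∧ ∃ σ : K ≃ₐ[F] K, σ ≠ 1 ∧
      ∀ (k : K) (x : V), ((g⁻¹ * t.R a * g : O Q) : V ≃ₗ[F] V) (k • x) =
        σ k • ((g⁻¹ * t.R a * g : O Q) : V ≃ₗ[F] V) x := by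
  by_contra hcon
  obtain ⟨σ, hσ⟩ := hM.exists_aut t.toPair.ne_zero
  set M := g⁻¹ * t.R a * g with hMdef
  let DR : V →ₗ[F] V := ((t.R a : V ≃ₗ[F] V) : V →ₗ[F] V) - LinearMap.id
  let D : V →ₗ[F] V := ((M : V ≃ₗ[F] V) : V →ₗ[F] V) - LinearMap.id
  have hDR : ∀ x, DR x = (t.R a : V ≃ₗ[F] V) x - x := fun x => rfl
  have hD : ∀ x, D x = (M : V ≃ₗ[F] V) x - x := fun x => rfl
  have hconj : ∀ x, (g : V ≃ₗ[F] V) (D x) = DR ((g : V ≃ₗ[F] V) x) := fun x => by
    rw [hD, hDR, map_sub, hMdef, Subgroup.coe_mul, mul_app, Subgroup.coe_mul, mul_app, app_inv]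
  -- the radical element is unipotent
  have h2 : ∀ x, DR (DR x) = (-(2 * a.toAdd ^ 2 * S.QK z₀ * S.B u x)) • u := fun x => by
    have e : DR x = (a.toAdd * S.B z₀ x - a.toAdd ^ 2 * S.QK z₀ * S.B u x) • u - (S.B u x * a.toAdd) • z₀ := by
      rw [hDR, t.R_app]; abel
    have e1 : S.B u (DR x) = 0 := by
      rw [e, B, polar_sub_right, ← B, ← B, t.toPair.Bu_smul_u, t.smul_zu, sub_zero]
    have e2 : S.B z₀ (DR x) = -(S.B u x * a.toAdd * (2 * S.QK z₀)) := by
      rw [e, B, polar_sub_right, polar_smul_right', polar_smul_right', polar_self', ← B, t.zu']; ring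
    rw [hDR (DR x), t.R_app, e1, e2, mul_zero, sub_zero, zero_mul, zero_smul, sub_zero, add_sub_cancel_left]
    congr 1
    ring
  have h3 : ∀ x, DR (DR (DR x)) = 0 := fun x => by
    rw [h2]
    have e1 : S.B u (DR x) = 0 := by
      rw [hDR, t.R_app, B, polar_sub_right, polar_sub_right, polar_add_right, ← B, ← B, ← B, t.toPair.Bu_smul_u,
        t.smul_zu]
      ring
    rw [e1, mul_zero, neg_zero, zero_smul]
  -- so the conjugate is linear
  obtain ⟨x₀, hx₀, hx₀'⟩ : ∃ x, x ≠ 0 ∧ D x = 0 := by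
    refine ⟨((g⁻¹ : O Q) : V ≃ₗ[F] V) u, fun h0 => t.toPair.ne_zero ((LinearEquiv.map_eq_zero_iff _).1 h0),
      (g : V ≃ₗ[F] V).injective ?_⟩
    rw [hconj, app_inv, map_zero, hDR, sub_eq_zero]
    simpa using t.R_u a 1
  let τ' : K →ₗ[F] K := σ.toLinearMap - LinearMap.id
  have hDk : ∀ k : K, D (k • x₀) = τ' k • x₀ := fun k => by
    rw [hD, hσ, show (M : V ≃ₗ[F] V) x₀ = x₀ from sub_eq_zero.1 hx₀', ← sub_smul]; rfl
  have hτ3 : ∀ k, τ' (τ' (τ' k)) = 0 := fun k => by
    have h : D (D (D (k • x₀))) = 0 := (g : V ≃ₗ[F] V).injective (by rw [hconj, hconj, hconj, h3, map_zero])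
    rw [hDk, hDk, hDk] at h
    exact (smul_eq_zero.1 h).resolve_right hx₀
  have hlin : ∀ k, σ k = k := by
    let Fix : Subalgebra F K :=
      { carrier := {k | σ k = k}
        mul_mem' := fun {a b} ha hb => by
          show σ (a * b) = a * b
          rw [map_mul, ha, hb]
        add_mem' := fun {a b} ha hb => by
          show σ (a + b) = a + b
          rw [map_add, ha, hb]
        algebraMap_mem' := fun c => σ.commutes c }
    have := Subalgebra.isSimpleOrder_of_finrank_prime F K hr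
    rcases eq_bot_or_eq_top Fix with hF | hF
    · exfalso
      refine hcon ⟨?_, σ, fun h1 => ?_, hσ⟩
      swap
      · have htop : Fix = ⊤ := by
          rw [eq_top_iff]
          intro k _
          show σ k = k
          rw [h1]
          rfl
        rw [hF] at htop
        have := Subalgebra.bot_eq_top_iff_finrank_eq_one.1 htop
        omega
      have hker : finrank F (LinearMap.ker τ') ≤ 1 := by
        refine (Submodule.finrank_mono (t := Submodule.span F {(1 : K)}) fun k hk => ?_).trans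
          (finrank_span_singleton one_ne_zero).le
        have hk' : k ∈ Fix := sub_eq_zero.1 hk
        rw [hF, Algebra.mem_bot] at hk'
        obtain ⟨c, rfl⟩ := hk'
        exact Submodule.mem_span_singleton.2 ⟨c, (Algebra.algebraMap_eq_smul_one c).symm⟩
      have key : ∀ W : Submodule F K, finrank F (W.map τ') + 1 ≥ finrank F W := fun W => by
        have h1 := LinearMap.finrank_range_add_finrank_ker (τ'.domRestrict W)
        rw [LinearMap.range_domRestrict] at h1
        have h2 : finrank F (LinearMap.ker (τ'.domRestrict W)) ≤ finrank F (LinearMap.ker τ') := by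
          rw [LinearMap.ker_domRestrict, ← (Submodule.equivMapOfInjective _ W.injective_subtype _).finrank_eq.symm]
          exact Submodule.finrank_mono (Submodule.map_comap_le _ _)
        omega
      have e1 := key ⊤
      have e2 := key ((⊤ : Submodule F K).map τ')
      have e3 := key (((⊤ : Submodule F K).map τ').map τ')
      have e4 : ((((⊤ : Submodule F K).map τ').map τ').map τ') = ⊥ := by
        rw [eq_bot_iff]
        rintro _ ⟨_, ⟨_, ⟨k, -, rfl⟩, rfl⟩, rfl⟩
        exact (Submodule.mem_bot F).2 (hτ3 k)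
      rw [e4, finrank_bot] at e3
      rw [finrank_top] at e1
      omega
    · exact fun k => show k ∈ Fix from hF ▸ Algebra.mem_top
  have hDK : ∀ (k : K) x, D (k • x) = k • D x := fun k x => by rw [hD, hD, hσ, hlin, smul_sub]
  -- the square of the defect sends a line onto the singular one
  set v := ((g⁻¹ : O Q) : V ≃ₗ[F] V) u with hv
  set c := -(2 * a.toAdd ^ 2 * S.QK z₀) with hc
  have hc0 : c ≠ 0 := neg_ne_zero.2 (mul_ne_zero (mul_ne_zero S.two (pow_ne_zero _ fun h => ha (toAdd_eq_zero.1 h))) t.zq)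
  set y := ((g⁻¹ : O Q) : V ≃ₗ[F] V) (c⁻¹ • f) with hy
  have hDy : (g : V ≃ₗ[F] V) (D (D y)) = u := by
    rw [hconj, hconj, hy, app_inv, h2, t.toPair.Bu_smul_f, ← neg_mul, ← hc, mul_inv_cancel₀ hc0, one_smul]
  have hline : ∀ k : K, ∃ k' : K, (g : V ≃ₗ[F] V) (k • v) = k' • u := fun k => by
    refine ⟨-(2 * a.toAdd ^ 2 * S.QK z₀ * S.B u ((g : V ≃ₗ[F] V) (k • y))), ?_⟩
    rw [show v = D (D y) from (g : V ≃ₗ[F] V).injective (by rw [hDy, hv, app_inv]), ← hDK, ← hDK, hconj, hconj, h2]
  have hgv : (g : V ≃ₗ[F] V) v = u := by rw [hv, app_inv]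
  have hvs : S.QK v = 0 := by
    have h1 : S.B v v = 0 := S.B_eq_zero_iff.2 fun k => by
      obtain ⟨k', hk'⟩ := hline k
      rw [← O.polar_app g, hk', hgv, polar_comm, S.orth_self t.su]
    rw [B, polar_self', mul_eq_zero] at h1
    exact h1.resolve_left S.two
  refine hns (hN.semi hm.ge hK hX hg (fun h0 => t.toPair.ne_zero (by rw [← hgv, h0, map_zero])) hvs
    (by rw [hgv]; exact t.su) fun k => ?_)
  obtain ⟨k', hk'⟩ := hline k
  exact ⟨k', by rw [hgv, hk']⟩

end EStr

end Cfsg.Agent.H57.ExtOrth
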