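import Cfsg.Agent.H57.ExtOrth.Three.Tri
import Cfsg.Agent.H57.ExtOrth.Iterate

/-!
The two facts the root construction uses, in dimension three.
-/

set_option autoImplicit false

namespace Cfsg.Agent.H57.ExtOrth

open QuadraticMap Module Cfsg.Agent.Orthogonal

variable {F K V : Type*} [Field F] [Field K] [Algebra F K] [AddCommGroup V] [Module F V] [Module K V]
  [IsScalarTower F K V] {Q : QuadraticForm F V}

namespace EStr

variable {S : EStr Q K} [FiniteDimensional K V] [FiniteDimensional F K] [FiniteDimensional F V] [Finite F] [Finite K]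
  {X : Subgroup (O Q)} {u f : V} {h : O Q}

omit [Finite F] in
/-- With an orthogonal image outside the line, every image is orthogonal. -/
theorem Max.image_perp_three (hM : S.Max X u h) (hm : finrank K V = 3) (hr : (finrank F K).Prime) (h3 : 3 ≤ finrank F K)
    (hX : S.Over X) (p : S.Pair u f) (hK : 27 ≤ Nat.card K) {ν : K →ₗ[F] K} (hν : ν ≠ 0) (hT : S.TIn X u ν) {a₀ : K} (hx : a₀ ∉ HIn K h u) (hxu : S.B u ((h : V ≃ₗ[F] V) (a₀ • u)) = 0) (a : K) :
    S.B u ((h : V ≃ₗ[F] V) (a • u)) = 0 := by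
  set x := (h : V ≃ₗ[F] V) (a₀ • u) with hxd
  set H := HIn K h⁻¹ u with hH
  have hinv : ∀ w : V, S.B u w = 0 → ∀ k : K, S.B u (k • w) = 0 := fun w hw k => by
    rw [B, polar_smul_right', ← B, hw, mul_zero]
  have hxK : ∀ k : K, x ≠ k • u := fun k e => hx (mem_HIn.2 ⟨k, e.symm⟩)
  -- the images outside the orthogonal space
  have hshift : ∀ a : K, ∀ z, S.B u z = 0 → S.B z x ∈ H →
      ∃ (l : F) (k : K), S.B u ((h : V ≃ₗ[F] V) (a • u)) • z = l • x + k • u := by
    intro a z hz hzx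
    obtain ⟨a', ha'⟩ := hM.shift hX p hx hxu hz hzx a
    set y := (h : V ≃ₗ[F] V) (a • u) with hy
    rw [E_app] at ha'
    have hd : (h : V ≃ₗ[F] V) ((a' - a) • u) = (S.B z y - S.QK z * S.B u y) • u - S.B u y • z := by
      rw [sub_smul, map_sub, ← ha', ← hy]; abel
    obtain ⟨l, k, hlk⟩ := hM.image_line hX p hr hx hxu (a := a' - a) (by
      rw [hd, B, polar_sub_right, ← B, ← B, p.Bu_smul_u, hinv z hz, sub_zero])
    rw [hd] at hlk
    refine ⟨-l, (S.B z y - S.QK z * S.B u y) - k, ?_⟩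
    rw [neg_smul, sub_smul _ k]
    linear_combination (norm := module) -hlk
  by_contra hc
  set c := S.B u ((h : V ≃ₗ[F] V) (a • u)) with hcd
  let Φ : V →ₗ[F] K × (K ⧸ H) :=
    ((S.QK.polarBilin u).restrictScalars F).prod (H.mkQ.comp ((S.QK.polarBilin x).restrictScalars F))
  have hΦ : ∀ z, Φ z = (S.B u z, Submodule.Quotient.mk (S.B x z)) := fun z => rfl
  let m : V →ₗ[F] V := ((LinearMap.lsmul K V) c).restrictScalars F
  have hminj : Function.Injective m := fun v w e => smul_right_injective V hc e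
  let W := Submodule.span F {x} ⊔ lnF F K u
  have hle : (LinearMap.ker Φ).map m ≤ W := by
    rintro _ ⟨z, hz, rfl⟩
    rw [SetLike.mem_coe, LinearMap.mem_ker, hΦ, Prod.mk_eq_zero, Submodule.Quotient.mk_eq_zero] at hz
    obtain ⟨l, k, hlk⟩ := hshift a z hz.1 (by rw [B, polar_comm]; exact hz.2)
    show c • z ∈ W
    rw [hcd, hlk]
    exact Submodule.add_mem_sup (Submodule.smul_mem _ _ (Submodule.mem_span_singleton_self x)) (smul_mem_lnF _ _)
  have he : finrank F H = 1 := by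
    have h1 := LinearMap.finrank_range_add_finrank_ker Φ
    have h2 := Submodule.finrank_le (LinearMap.range Φ)
    have h3 := Submodule.finrank_mono hle
    rw [← (Submodule.equivMapOfInjective m hminj _).finrank_eq] at h3
    have h4 := Submodule.finrank_add_le_finrank_add_finrank (Submodule.span F {x}) (lnF F K u)
    rw [finrank_span_singleton (fun e : x = 0 => hxK 0 (by rw [e, zero_smul])), finrank_lnF p.ne_zero] at h4
    have h6 : 1 ≤ finrank F H := Submodule.one_le_finrank_iff.2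
      ((Submodule.ne_bot_iff _).2 ⟨1, mem_HIn_inv.2 ⟨1, by rw [one_smul, hM.fix]⟩, one_ne_zero⟩)
    have h8 := H.finrank_quotient_add_finrank
    have hn := Module.finrank_mul_finrank F K V
    rw [hm] at hn
    rw [Module.finrank_prod] at h2
    simp only [W] at h3
    omega
  obtain ⟨z₁, hz₁, hz₁x⟩ : ∃ z, S.B u z = 0 ∧ S.B z x = 1 := by
    by_contra hc1
    push Not at hc1
    refine hxK _ (p.eq_smul_of_perp fun z hz => ?_)
    by_contra h0
    exact hc1 _ (hinv z hz (S.B x z)⁻¹) (by rw [B, polar_smul_left', polar_comm, ← B, inv_mul_cancel₀ h0])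
  have hone : ∀ a : K, ∃ l : F, S.B u ((h : V ≃ₗ[F] V) (a • u)) = l • S.B x x := fun a => by
    obtain ⟨l, k, hlk⟩ := hshift a z₁ hz₁ (by rw [hz₁x]; exact mem_HIn_inv.2 ⟨1, by rw [one_smul, hM.fix]⟩)
    refine ⟨l, ?_⟩
    have h1 := congrArg (fun v => S.B v x) hlk
    simp only [← algebraMap_smul K l x, B, polar_smul_left', polar_add_left] at h1
    rw [Algebra.smul_def]
    rw [show polar S.QK z₁ x = 1 from hz₁x, show polar S.QK u x = 0 from hxu, mul_one, mul_zero, add_zero] at h1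
    exact h1
  let C : K →ₗ[F] K := ((S.QK.polarBilin u).restrictScalars F).comp
    (((h : V ≃ₗ[F] V) : V →ₗ[F] V).comp ((LinearMap.toSpanSingleton K V u).restrictScalars F))
  have hC : ∀ a, C a = S.B u ((h : V ≃ₗ[F] V) (a • u)) := fun a => rfl
  have hrange : finrank F (LinearMap.range C) ≤ 1 := by
    refine (Submodule.finrank_mono (t := Submodule.span F {S.B x x}) ?_).trans ((finrank_span_le_card _).trans (by simp))
    rintro _ ⟨a, rfl⟩
    obtain ⟨l, hl⟩ := hone a
    exact Submodule.mem_span_singleton.2 ⟨l, hl.symm⟩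
  have hker : 2 ≤ finrank F (LinearMap.ker C) := by
    have := LinearMap.finrank_range_add_finrank_ker C
    omega
  -- a value on the line outside the kept part
  obtain ⟨v, hv, hvH⟩ : ∃ v ∈ LinearMap.ker (S.τ.comp (LinearMap.mulLeft F c)), v ∉ H := by
    refine SetLike.not_le_iff_exists.1 fun hle' => ?_
    have h1 := Submodule.finrank_mono hle'
    have h2 := LinearMap.finrank_range_add_finrank_ker (S.τ.comp (LinearMap.mulLeft F c))
    have h4 := Submodule.finrank_le (LinearMap.range (S.τ.comp (LinearMap.mulLeft F c)))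
    rw [Module.finrank_self] at h4
    omega
  rw [LinearMap.mem_ker, LinearMap.comp_apply, LinearMap.mulLeft_apply] at hv
  obtain ⟨ν', ⟨T, hTX, hT'⟩, hν'⟩ := hT.exists_value p hX hν hr hK hc hv
  set g := h⁻¹ * T * h with hg
  have happ : ∀ b : K, (g : V ≃ₗ[F] V) (b • u) = b • u + ((h⁻¹ : O Q) : V ≃ₗ[F] V) (ν' (C b) • u) := fun b => by
    rw [hg, Subgroup.coe_mul, mul_app, Subgroup.coe_mul, mul_app, hT', map_add, inv_app, ← hC]
  have hgu : (g : V ≃ₗ[F] V) u = u := by
    have h1 := happ 1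
    have h0 : C 1 = 0 := by rw [hC, one_smul, hM.fix, p.uu]
    rwa [h0, map_zero, zero_smul, map_zero, add_zero, one_smul] at h1
  have hga : a ∉ HIn K g u := fun hmem => by
    obtain ⟨k, hk⟩ := mem_HIn.1 hmem
    rw [happ, hC, ← hcd, hν'] at hk
    exact hvH (mem_HIn.2 ⟨k - a, by rw [sub_smul, hk]; abel⟩)
  have hle' : LinearMap.ker C ≤ HIn K g u := fun b hb => mem_HIn.2 ⟨b, by
    rw [happ, LinearMap.mem_ker.1 hb, map_zero, zero_smul, map_zero, add_zero]⟩
  have h1 := hM.max g (X.mul_mem (X.mul_mem (X.inv_mem hM.mem) hTX) hM.mem) hgu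
    (fun e => hga (e ▸ Submodule.mem_top))
  rw [← finrank_HIn_inv h p.ne_zero, ← hH, he] at h1
  have := Submodule.finrank_mono hle'
  omega

/-- An element of the maximal kind with an orthogonal image outside the line. -/
theorem exists_end_three (hm : finrank K V = 3) (hr : 3 ≤ finrank F K) (hK : 27 ≤ Nat.card K)
    (hrp : (finrank F K).Prime) (hX : S.Over X) (p : S.Pair u f) {ν : K →ₗ[F] K} (hν : ν ≠ 0) (hT : S.TIn X u ν)
    (hM : S.Max X u h) : ∃ h₁, S.Max X u h₁ ∧ ∃ a₀, a₀ ∉ HIn K h₁ u ∧ S.B u ((h₁ : V ≃ₗ[F] V) (a₀ • u)) = 0 := by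
  by_cases h1 : ∃ a₀, a₀ ∉ HIn K h⁻¹ u ∧ S.B u (((h⁻¹ : O Q) : V ≃ₗ[F] V) (a₀ • u)) = 0
  · exact ⟨_, hM.inv p.ne_zero, h1⟩
  push Not at h1
  obtain ⟨k₀, -, hk₀⟩ := SetLike.exists_of_lt (hM.inv p.ne_zero).ne_top.lt_top
  set y := ((h⁻¹ : O Q) : V ≃ₗ[F] V) (k₀ • u) with hy
  have hc : S.B u y ≠ 0 := h1 k₀ hk₀
  set c := S.B u y with hcd
  obtain ⟨z₀, t⟩ := exists_tri hm p
  -- an isotropic multiple
  obtain ⟨w, hw0, hw⟩ : ∃ w : K, w ≠ 0 ∧ S.τ (c * c * (S.QK (w • z₀))) = 0 := by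
    obtain ⟨w, hw0, hw⟩ := exists_common_zero (F := F) (W := K) (ι := Unit)
      (fun _ => ((S.τ.comp (LinearMap.mulLeft F (c * c))).compQuadraticMap' S.QK).comp
        ((LinearMap.toSpanSingleton K V z₀).restrictScalars F)) (fun _ => 0) (by rw [Fintype.card_unit]; omega)
    refine ⟨w, hw0, ?_⟩
    have := hw ()
    rwa [LinearMap.zero_apply, add_zero] at this
  set z := w • z₀ with hz
  have hzu : S.B u z = 0 := t.smul_zu w
  -- the value
  let C : K →ₗ[F] K := ((S.QK.polarBilin u).restrictScalars F).comp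
    ((((h⁻¹ : O Q) : V ≃ₗ[F] V) : V →ₗ[F] V).comp ((LinearMap.toSpanSingleton K V u).restrictScalars F))
  let φ : K →ₗ[F] F := (Q.polarBilin (c • z)).comp
    ((((h⁻¹ : O Q) : V ≃ₗ[F] V) : V →ₗ[F] V).comp ((LinearMap.toSpanSingleton K V u).restrictScalars F))
  have hCa : ∀ a, C a = S.B u (((h⁻¹ : O Q) : V ≃ₗ[F] V) (a • u)) := fun a => rfl
  have hφa : ∀ a, φ a = polar Q (c • z) (((h⁻¹ : O Q) : V ≃ₗ[F] V) (a • u)) := fun a => rfl
  have hkerle : LinearMap.ker C ≤ LinearMap.ker φ := fun a ha => by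
    rw [LinearMap.mem_ker, hCa] at ha
    have haH : a ∈ HIn K h⁻¹ u := by
      by_contra h0
      exact h1 a h0 ha
    obtain ⟨j, hj⟩ := mem_HIn.1 haH
    rw [LinearMap.mem_ker, hφa, ← hj, S.f_eq, B, polar_smul_left', polar_smul_right', polar_comm, ← B, hzu, mul_zero,
      mul_zero, map_zero]
  obtain ⟨l, hl⟩ := LinearMap.exists_leftInverse_of_injective ((LinearMap.ker C).liftQ C le_rfl)
    (Submodule.ker_liftQ_eq_bot _ _ _ le_rfl)
  obtain ⟨A, hA⟩ := S.exists_rep (((LinearMap.ker C).liftQ φ hkerle).comp l)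
  have hAC : ∀ a, S.τ (A * C a) = φ a := fun a => by
    rw [← hA, LinearMap.comp_apply]
    have := LinearMap.congr_fun hl (Submodule.Quotient.mk a)
    rw [LinearMap.comp_apply, Submodule.liftQ_apply, LinearMap.id_apply] at this
    rw [this, Submodule.liftQ_apply]
  set α := S.B z y - S.QK z * c with hα
  have hv : S.τ (c * (A - α)) = 0 := by
    have e1 : S.τ (A * c) = S.τ (c * S.B z y) := by
      have := hAC k₀
      rw [hCa, hφa, ← hy, ← hcd, ← S.tau_B] at this
      exact this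
    rw [mul_sub, map_sub, mul_comm c A, e1, hα, mul_sub, map_sub, ← mul_assoc, mul_comm c (S.QK z), mul_assoc,
      mul_comm (S.QK z), hw, sub_zero, sub_self]
  obtain ⟨ν', ⟨T, hTX, hT'⟩, hν'⟩ := hT.exists_value p hX hν hrp hK hc hv
  set g := h * (T * S.E u z p.su hzu) * h⁻¹ with hg
  have hgX : g ∈ X := X.mul_mem (X.mul_mem hM.mem (X.mul_mem hTX (hX.E_mem _ _))) (X.inv_mem hM.mem)
  have hTu : ∀ k : K, (T : V ≃ₗ[F] V) (k • u) = k • u := fun k => by
    rw [hT', p.Bu_smul_u, map_zero, zero_smul, add_zero]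
  have hfixH : ∀ k : K, k ∈ HIn K h⁻¹ u → (g : V ≃ₗ[F] V) (k • u) = k • u := fun k hk => by
    obtain ⟨j, hj⟩ := mem_HIn.1 hk
    rw [hg, Subgroup.coe_mul, mul_app, Subgroup.coe_mul, mul_app, ← hj, Subgroup.coe_mul, mul_app, E_smul_self, hTu, hj,
      app_inv]
  have hgk : (g : V ≃ₗ[F] V) (k₀ • u) = k₀ • u + (h : V ≃ₗ[F] V) (A • u - c • z) := by
    have e2 : S.B u ((S.E u z p.su hzu : V ≃ₗ[F] V) y) = c := by
      rw [E_app]
      simp only [B, polar_sub_right, polar_add_right, polar_smul_right', show polar S.QK u u = 0 from p.uu,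
        show polar S.QK u z = 0 from hzu, hcd]
      ring
    rw [hg, Subgroup.coe_mul, mul_app, Subgroup.coe_mul, mul_app, ← hy, Subgroup.coe_mul, mul_app, hT', e2, hν', E_app,
      ← hcd, ← hα, show y + α • u - c • z + (A - α) • u = y + (A • u - c • z) by module, map_add, hy, app_inv]
  have hperp : S.B u ((g : V ≃ₗ[F] V) (k₀ • u)) = 0 := by
    have e3 : S.B u ((h : V ≃ₗ[F] V) (A • u - c • z)) = 0 := S.B_eq_zero_iff.2 fun a => by
      have e4 : polar Q (A • u) (((h⁻¹ : O Q) : V ≃ₗ[F] V) (a • u)) = φ a := by rw [← S.tau_B, ← hCa, hAC]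
      rw [← app_inv h (a • u), O.polar_app, polar_comm, polar_sub_left, e4, hφa, sub_self]
    rw [hgk, B, polar_add_right, ← B, ← B, e3, p.Bu_smul_u, add_zero]
  have hk₀g : k₀ ∉ HIn K g u := fun hmem => by
    obtain ⟨j, hj⟩ := mem_HIn.1 hmem
    rw [hgk] at hj
    have hjj : (h : V ≃ₗ[F] V) (A • u - c • z) = (j - k₀) • u := by rw [sub_smul, hj]; abel
    have hjH : j - k₀ ∈ HIn K h⁻¹ u := by
      by_contra h0
      refine h1 _ h0 ?_
      rw [← hjj, inv_app, B, polar_sub_right, ← B, ← B, p.Bu_smul_u, B, polar_smul_right', ← B, hzu, mul_zero, sub_zero]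
    obtain ⟨i, hi⟩ := mem_HIn.1 hjH
    rw [← hjj, inv_app] at hi
    have h2 := congrArg (S.B z₀) hi
    simp only [B, polar_sub_right, hz, polar_smul_right', show polar S.QK z₀ u = 0 from t.zu', polar_self', mul_zero,
      zero_sub] at h2
    rw [eq_comm, neg_eq_zero] at h2
    exact mul_ne_zero hc (mul_ne_zero hw0 (mul_ne_zero S.two t.zq)) h2
  have hgu : (g : V ≃ₗ[F] V) u = u := by
    simpa using hfixH 1 (mem_HIn_inv.2 ⟨1, by rw [one_smul, hM.fix]⟩)
  refine ⟨g, ⟨hgX, hgu, fun e => hk₀g (e ▸ Submodule.mem_top), fun h' a1 a2 a3 => (hM.max h' a1 a2 a3).trans ?_⟩,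
    k₀, hk₀g, hperp⟩
  rw [← finrank_HIn_inv h p.ne_zero]
  exact Submodule.finrank_mono fun k hk => mem_HIn.2 ⟨k, (hfixH k hk).symm⟩

/-- The two facts in dimension three. -/
theorem good_of_three (hm : finrank K V = 3) (hr : (finrank F K).Prime) (h3 : 3 ≤ finrank F K) (hK : 27 ≤ Nat.card K)
    (hX : S.Over X) (p : S.Pair u f) {ν : K →ₗ[F] K} (hν : ν ≠ 0) (hT : S.TIn X u ν) : S.Good X u :=
  ⟨fun _ hM _ hx hxu a => hM.image_perp_three hm hr h3 hX p hK hν hT hx hxu a,
    fun _ hM => exists_end_three hm (by omega) hK hr hX p hν hT hM⟩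

end EStr

end Cfsg.Agent.H57.ExtOrth
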