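import Cfsg.Agent.H57.ExtOrth.Three.Tri

/-!
Without elements moving along a singular line, an element of the overgroup mapping a singular line onto another one
is semilinear.
-/

set_option autoImplicit false

namespace Cfsg.Agent.H57.ExtOrth

open QuadraticMap Module Cfsg.Agent.Orthogonal
open scoped commutatorElement

variable {F K V : Type*} [Field F] [Field K] [Algebra F K] [AddCommGroup V] [Module F V] [Module K V]
  {Q : QuadraticForm F V}

/-- Some element of a large finite field separates the quadratic identity. -/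
theorem exists_not_root [Finite K] (h2 : (2 : K) ≠ 0) (hK : 27 ≤ Nat.card K) :
    ∃ b c : K, b ≠ 0 ∧ c ≠ 0 ∧ b * b + 1 = c * c ∧ b * b * (b * b) + b * b + 1 ≠ 0 := by
  classical
  by_contra hcon
  push Not at hcon
  have := Fintype.ofFinite K
  set P : Polynomial K := Polynomial.X * (Polynomial.X ^ 4 - 1) * ((1 - Polynomial.X ^ 2) ^ 4 +
    4 * Polynomial.X ^ 2 * (1 - Polynomial.X ^ 2) ^ 2 + 16 * Polynomial.X ^ 4) with hP
  have hdeg : P.natDegree ≤ 13 := by rw [hP]; compute_degree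
  have hlc : P.coeff 13 = 1 := by rw [hP]; compute_degree!
  have hP0 : P ≠ 0 := fun h => one_ne_zero (α := K) (by rw [← hlc, h, Polynomial.coeff_zero])
  have hroot : ∀ s : K, s ∈ P.roots := fun s => by
    rw [Polynomial.mem_roots hP0, Polynomial.IsRoot, hP]
    simp only [Polynomial.eval_mul, Polynomial.eval_X, Polynomial.eval_sub, Polynomial.eval_pow, Polynomial.eval_one,
      Polynomial.eval_add, Polynomial.eval_ofNat]
    by_cases hs : s * (s ^ 4 - 1) = 0
    · rw [hs, zero_mul]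
    rw [mul_eq_zero, not_or] at hs
    have hs0 := hs.1
    have h1 : (1 - s * s) / (2 * s) ≠ 0 := div_ne_zero (fun h => hs.2 (by linear_combination -(1 + s * s) * h))
      (mul_ne_zero h2 hs0)
    have h3 : (1 + s * s) / (2 * s) ≠ 0 := div_ne_zero (fun h => hs.2 (by linear_combination -(1 - s * s) * h))
      (mul_ne_zero h2 hs0)
    have h4 := hcon _ _ h1 h3 (by field_simp; ring)
    have h5 : (1 - s ^ 2) ^ 4 + 4 * s ^ 2 * (1 - s ^ 2) ^ 2 + 16 * s ^ 4 = 0 := by
      field_simp at h4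
      linear_combination h4
    rw [h5, mul_zero]
  have h6 : (Finset.univ : Finset K).card ≤ P.roots.toFinset.card :=
    Finset.card_le_card fun s _ => Multiset.mem_toFinset.2 (hroot s)
  rw [Finset.card_univ, ← Nat.card_eq_fintype_card] at h6
  have := (h6.trans (Multiset.toFinset_card_le _)).trans (Polynomial.card_roots' P)
  omega

namespace EStr

variable {S : EStr Q K} {u f : V}

/-- An isometry scaling the first vector of a pair. -/
theorem Pair.exists_scale (p : S.Pair u f) {b : K} (hb : b ≠ 0) :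
    ∃ d : O S.QK, (d : V ≃ₗ[K] V) u = b • u ∧ (d : V ≃ₗ[K] V) f = b⁻¹ • f ∧
      (∀ z, S.B u z = 0 → S.B f z = 0 → (d : V ≃ₗ[K] V) z = z) ∧ d * d ∈ commutator (O S.QK) := by
  set w := rO S.QK (u - f) with hw
  set v := rO S.QK (u - b⁻¹ • f) with hv
  have hwu : (w : V ≃ₗ[K] V) u = f := rO_sub_swap (by rw [p.su, p.sf]) (by
    rw [qmap_sub, p.su, p.sf, show polar S.QK u f = 1 from p.uf]; simp)
  have hwf : (w : V ≃ₗ[K] V) f = u := by
    rw [← hwu, ← mul_app, ← Subgroup.coe_mul, hw, rO_mul_self]; rfl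
  have hvu : (v : V ≃ₗ[K] V) u = b⁻¹ • f := by
    refine rO_sub_swap (by rw [qmap_smul, p.su, p.sf, mul_zero]) ?_
    rw [qmap_sub, qmap_smul, p.su, p.sf, polar_smul_right', show polar S.QK u f = 1 from p.uf]
    simp [hb]
  have hvf : (v : V ≃ₗ[K] V) f = b • u := by
    have h1 : (v : V ≃ₗ[K] V) (b⁻¹ • f) = u := by rw [← hvu, ← mul_app, ← Subgroup.coe_mul, hv, rO_mul_self]; rfl
    rw [map_smul] at h1
    rw [← h1, smul_smul, mul_inv_cancel₀ hb, one_smul]
  refine ⟨v * w, by rw [Subgroup.coe_mul, mul_app, hwu, hvf], by rw [Subgroup.coe_mul, mul_app, hwf, hvu],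
    fun z h1 h2 => ?_, ?_⟩
  · have e1 : polar S.QK u z = 0 := h1
    have e2 : polar S.QK f z = 0 := h2
    rw [Subgroup.coe_mul, mul_app, hw, rO_fix (v := u - f) (x := z) (by rw [polar_sub_left, e1, e2, sub_zero]), hv,
      rO_fix (v := u - b⁻¹ • f) (x := z) (by rw [polar_sub_left, polar_smul_left', e1, e2, mul_zero, sub_zero])]
  · have e : ⁅v * w, w⁆ = v * w * (v * w) := by
      rw [commutatorElement_def, mul_inv_rev, hw, hv, rO_inv, rO_inv]
      simp only [mul_assoc]
      rw [← mul_assoc (rO S.QK (u - f)) (rO S.QK (u - f)), rO_mul_self, one_mul]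
    rw [← e]
    exact Subgroup.commutator_mem_commutator (Subgroup.mem_top _) (Subgroup.mem_top _)

/-- The torus of a pair. -/
theorem Pair.exists_torus' (p : S.Pair u f) {b : K} (hb : b ≠ 0) :
    ∃ n ∈ commutator (O S.QK), (∀ k : K, (n : V ≃ₗ[K] V) (k • u) = (k * (b * b)) • u) ∧
      (∀ k : K, (n : V ≃ₗ[K] V) (k • f) = (k / (b * b)) • f) ∧
      ∀ z, S.B u z = 0 → S.B f z = 0 → (n : V ≃ₗ[K] V) z = z := by
  obtain ⟨d, hu, hf, hz, hdd⟩ := p.exists_scale hb
  refine ⟨d * d, hdd, fun k => ?_, fun k => ?_, fun z h1 h2 => by rw [Subgroup.coe_mul, mul_app, hz z h1 h2, hz z h1 h2]⟩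
  · rw [Subgroup.coe_mul, mul_app, map_smul, hu, map_smul, map_smul, hu, smul_smul, smul_smul, mul_assoc]
  · rw [Subgroup.coe_mul, mul_app, map_smul, hf, map_smul, map_smul, hf, smul_smul, smul_smul, div_eq_mul_inv,
      mul_inv, mul_assoc]

/-- `X` has no element moving along a singular line. -/
def NoT (S : EStr Q K) (X : Subgroup (O Q)) : Prop :=
  ∀ u f, S.Pair u f → ∀ ν, S.TIn X u ν → ν = 0

variable [IsScalarTower F K V] [FiniteDimensional K V] [Finite K] {X : Subgroup (O Q)}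

/-- With no elements moving along lines, keeping a singular line means being semilinear. -/
theorem NoT.semi (hN : S.NoT X) (hm : 3 ≤ finrank K V) (hK : 27 ≤ Nat.card K) (hX : S.Over X) {g : O Q} (hg : g ∈ X)
    {x : V} (hx0 : x ≠ 0) (hx : S.QK x = 0) (hgx : S.QK ((g : V ≃ₗ[F] V) x) = 0) (hk : KeepsLine K g x) :
    Semi K g := by
  obtain ⟨n, hn, s, hs0, hns⟩ := exists_point hm hgx (fun h => hx0 ((LinearEquiv.map_eq_zero_iff _).1 h)) hx hx0
  set h := S.res n * g with hh
  have hhX : h ∈ X := X.mul_mem (hX.res_mem hn) hg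
  have hhx : (h : V ≃ₗ[F] V) x = s • x := by rw [hh, Subgroup.coe_mul, mul_app, res_app, hns]
  obtain ⟨f, p⟩ := exists_pair hx hx0
  obtain ⟨d, hdu, -, -, -⟩ := p.exists_scale (inv_ne_zero hs0)
  set D := S.res d with hD
  let X' : Subgroup (O Q) := X.comap (MulAut.conj D⁻¹).toMonoidHom
  have hmem : ∀ y, y ∈ X' ↔ D⁻¹ * y * D ∈ X := fun y => by
    rw [Subgroup.mem_comap, MulEquiv.coe_toMonoidHom, MulAut.conj_apply, inv_inv]
  have hX' : S.Over X' := fun y hy hlin => (hmem y).2 <| hX _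
    (by simpa using (Subgroup.Normal.conj_mem inferInstance y hy D⁻¹)) fun k v => by
      have hDinv : ∀ w : V, ((D⁻¹ : O Q) : V ≃ₗ[F] V) w = ((d⁻¹ : O S.QK) : V ≃ₗ[K] V) w := fun w => by
        rw [hD, ← map_inv, res_app]
      simp only [Subgroup.coe_mul, mul_app]
      rw [hD, res_app, map_smul, hlin, ← hD, hDinv, map_smul, hDinv, res_app]
  have hN' : ∀ ν, S.TIn X' x ν → ν = 0 := by
    rintro ν ⟨T, hT, hT'⟩
    have hin : S.TIn X x (((LinearMap.mulLeft F s).comp ν).comp (LinearMap.mulLeft F s)) := by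
      refine ⟨D⁻¹ * T * D, (hmem T).1 hT, fun y => ?_⟩
      apply (D : V ≃ₗ[F] V).injective
      rw [← mul_app, ← Subgroup.coe_mul, ← mul_assoc, mul_inv_cancel_left, Subgroup.coe_mul, mul_app, hT', map_add, hD,
        res_app, res_app, map_smul, hdu, add_right_inj, smul_smul]
      have hβ : S.B x ((d : V ≃ₗ[K] V) y) = s * S.B x y := by
        conv_lhs => rw [show x = (d : V ≃ₗ[K] V) (s • x) by rw [map_smul, hdu, smul_smul, mul_inv_cancel₀ hs0, one_smul]]
        rw [B, O.polar_app, polar_smul_left']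
      rw [hβ, LinearMap.comp_apply, LinearMap.comp_apply, LinearMap.mulLeft_apply, LinearMap.mulLeft_apply]
      congr 1
      field_simp
    have h0 := hN _ _ p _ hin
    refine LinearMap.ext fun k => ?_
    have h1 := LinearMap.congr_fun h0 (s⁻¹ * k)
    rw [LinearMap.comp_apply, LinearMap.comp_apply, LinearMap.mulLeft_apply, LinearMap.mulLeft_apply,
      LinearMap.zero_apply, ← mul_assoc s, mul_inv_cancel₀ hs0, one_mul] at h1
    rw [(mul_eq_zero.1 h1).resolve_left hs0, LinearMap.zero_apply]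
  set h₀ := D * h with hh₀
  have hh₀x : (h₀ : V ≃ₗ[F] V) x = x := by
    rw [hh₀, Subgroup.coe_mul, mul_app, hhx, hD, res_app, map_smul, hdu, smul_smul, mul_inv_cancel₀ hs0, one_smul]
  have hline : KeepsLine K h₀ x := fun k => by
    obtain ⟨k', hk'⟩ := hk k
    exact ⟨k', by rw [hh₀, hh, Subgroup.coe_mul, mul_app, mul_app, Subgroup.coe_mul, mul_app, mul_app, hk', res_app,
      res_app, map_smul, hD, res_app, res_app, map_smul]⟩
  obtain ⟨z, hz, hfix, hline₁, hnorm⟩ := exists_normalise p hh₀x hline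
  set h₁ := S.E x z p.su hz * h₀ with hh₁
  have hconj : ∀ m ∈ commutator (O S.QK), h₁ * S.res m * h₁⁻¹ ∈ X' := fun m hm' => by
    have e : h₁ * S.res m * h₁⁻¹ = S.E x z p.su hz * (D * (h * S.res m * h⁻¹) * D⁻¹) * (S.E x z p.su hz)⁻¹ := by
      rw [hh₁, hh₀]; group
    rw [e]
    refine X'.mul_mem (X'.mul_mem (hX'.E_mem _ _) ((hmem _).2 ?_)) (X'.inv_mem (hX'.E_mem _ _))
    have e2 : D⁻¹ * (D * (h * S.res m * h⁻¹) * D⁻¹) * D = h * S.res m * h⁻¹ := by group
    rw [e2]
    exact X.mul_mem (X.mul_mem hhX (hX.res_mem hm')) (X.inv_mem hhX)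
  rcases shape_or_along hm hX' p (fun w hw => hconj _ (S.sie_mem_comm p.su hw)) hfix hline₁ hnorm with
    ⟨T, hT, ν, hν, hT'⟩ | ⟨σ, e, C, hs⟩
  · exact absurd (hN' ν ⟨T, hT, hT'⟩) hν
  by_cases hC : C = 0
  · exact semi_res_mul (semi_res_mul (semi_E_mul p.su hz (hs.semi p hC)))
  exfalso
  have hline' : ∀ a : K, (h₁ : V ≃ₗ[F] V) (a • x) = σ a • x := hs.on_u
  -- the defect is twisted by the torus
  have hsq : ∀ b : K, b ≠ 0 → ∀ k, C (k / (b * b)) = σ (b * b) * C k := by
    intro b hb k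
    obtain ⟨m, hmc, hmu, hmf, hmz⟩ := p.exists_torus' hb
    obtain ⟨m', hmc', hmu', hmf', hmz'⟩ := p.exists_torus' (show σ b ≠ 0 from fun h0 => hb ((RingEquiv.map_eq_zero_iff σ).1 h0))
    set T := h₁ * S.res m * h₁⁻¹ * (S.res m')⁻¹ with hT
    have hTX : T ∈ X' := X'.mul_mem (hconj m hmc) (X'.inv_mem (hX'.res_mem hmc'))
    have happ : ∀ y, (T : V ≃ₗ[F] V) ((m' : V ≃ₗ[K] V) ((h₁ : V ≃ₗ[F] V) y)) =
        (h₁ : V ≃ₗ[F] V) ((m : V ≃ₗ[K] V) y) := fun y => by
      rw [← S.res_app m' _, ← mul_app, ← mul_app, hT]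
      simp only [← Subgroup.coe_mul]
      rw [inv_mul_cancel_right, inv_mul_cancel_right, Subgroup.coe_mul, mul_app, res_app]
    have hfixT : ∀ y, S.B x y = 0 → (T : V ≃ₗ[F] V) y = y := by
      intro y hy
      obtain ⟨y₁, rfl⟩ := (m' : V ≃ₗ[K] V).surjective y
      have hy₁ : S.B x y₁ = 0 := by
        have h1 : S.B ((m' : V ≃ₗ[K] V) x) ((m' : V ≃ₗ[K] V) y₁) = S.B x y₁ := O.polar_app m' x y₁
        rw [← one_smul K x, hmu', one_mul, B, polar_smul_left', ← B, hy, mul_zero, one_smul] at h1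
        exact h1.symm
      obtain ⟨y₀, rfl⟩ := (h₁ : V ≃ₗ[F] V).surjective y₁
      have hy₀ : S.B x y₀ = 0 := S.perp_map_symm (fun a => ⟨σ a, hline' a⟩) hy₁
      obtain ⟨w, hw1, hw2, hw⟩ := p.dec y₀
      rw [hy₀, zero_smul, add_zero] at hw
      obtain ⟨hw3, hw4, -⟩ := hs.perp w hw1 hw2
      rw [happ, hw, map_add, hmu, hmz w hw1 hw2, map_add, map_add, hline', hline', map_add, hmu', hmz' _ hw3 hw4, map_mul,
        map_mul]
    obtain ⟨ν, hν⟩ := exists_linear p hfixT
    have hν0 := hN' ν ⟨T, hTX, hν⟩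
    have h1 := happ (k • f)
    rw [hν, hν0, LinearMap.zero_apply, zero_smul, add_zero, hmf, hs.on_f, hs.on_f, map_add, hmu', hmf', map_div₀] at h1
    have h2 := congrArg (S.B f) h1
    simp only [B, polar_add_right, polar_smul_right', show polar S.QK f f = 0 from p.ff,
      show polar S.QK f x = 1 from p.fu, mul_zero, mul_one, zero_add] at h2
    rw [← h2, map_mul]
    ring
  obtain ⟨b, c, hb, hc, hbc, hne⟩ := exists_not_root S.two hK
  obtain ⟨k, hk0⟩ : ∃ k, C k ≠ 0 := by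
    by_contra hc0
    push Not at hc0
    exact hC (LinearMap.ext hc0)
  have hmul : ∀ a : K, a ≠ 0 → C (k * (a * a)) * σ (a * a) = C k := fun a ha => by
    have h1 := hsq a ha (k * (a * a))
    rw [mul_div_cancel_right₀ _ (mul_ne_zero ha ha)] at h1
    rw [h1, mul_comm]
  have h1 := hmul b hb
  have h2 := hmul c hc
  rw [← hbc, mul_add, mul_one, map_add C, map_add σ, map_one] at h2
  have h3 : σ (b * b * (b * b) + b * b + 1) * C k = 0 := by
    rw [map_add, map_add, map_mul σ (b * b), map_one]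
    linear_combination σ (b * b) * h2 - (σ (b * b) + 1) * h1
  rcases mul_eq_zero.1 h3 with h4 | h4
  · exact hne ((RingEquiv.map_eq_zero_iff σ).1 h4)
  · exact hk0 h4

end EStr

end Cfsg.Agent.H57.ExtOrth
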