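import Cfsg.Agent.H57.ExtOrth.Three.Line
import Cfsg.Agent.H57.ExtOrth.Spread

/-!
In dimension three a root element whose plane is not in a line gives every Eichler transformation.
-/

set_option autoImplicit false

namespace Cfsg.Agent.H57.ExtOrth

open QuadraticMap Module Cfsg.Agent.Orthogonal
open Cfsg.Agent.H98.SubfieldOrth (SIn sIn_zero)

variable {F K V : Type*} [Field F] [Field K] [Algebra F K] [AddCommGroup V] [Module F V] [Module K V]
  [IsScalarTower F K V] {Q : QuadraticForm F V}

namespace EStr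

variable {S : EStr Q K} [FiniteDimensional K V] [Finite K] {X : Subgroup (O Q)} {u f z₀ : V}

omit [Finite K] in
/-- Every singular line over the field follows one of them. -/
theorem sIn_line_three (hm : 3 ≤ finrank K V) (hX : S.Over X) (p : S.Pair u f) (hl : ∀ k : K, SIn X u (k • u)) {v : V}
    (hv : S.QK v = 0) (k : K) : SIn X v (k • v) := by
  rcases eq_or_ne v 0 with rfl | hv0
  · exact H98.SubfieldOrth.sIn_zero_left _
  obtain ⟨n, hn, s, hs, hnu⟩ := exists_point hm p.su p.ne_zero hv hv0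
  obtain ⟨f', p'⟩ := exists_pair hv hv0
  have hfirst : ∀ b : K, b ≠ 0 → ∀ w : K, SIn X ((s * (b * b)) • v) (w • v) := by
    intro b hb w
    obtain ⟨n₂, hn₂, hn₂v, -, -⟩ := p'.exists_torus' hb
    have hu : ((S.res n₂ * S.res n : O Q) : V ≃ₗ[F] V) u = (s * (b * b)) • v := by
      rw [Subgroup.coe_mul, mul_app, res_app, res_app, hnu, hn₂v]
    refine ((hl (w / (s * (b * b)))).conj (X.mul_mem (hX.res_mem hn₂) (hX.res_mem hn))).congr hu ?_
    rw [Subgroup.coe_mul, mul_app, res_app, res_app, map_smul, map_smul, hnu, hn₂v, smul_smul,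
      div_mul_cancel₀ _ (mul_ne_zero hs (mul_ne_zero hb hb))]
  let G : AddSubgroup K :=
    { carrier := {p | SIn X v ((s * p) • v)}
      add_mem' := fun {a b} ha hb => (ha.add hb).congr rfl (by rw [← add_smul, mul_add])
      zero_mem' := (sIn_zero (S.sing hv)).congr rfl (by rw [mul_zero, zero_smul])
      neg_mem' := fun {a} ha => ha.neg.congr rfl (by rw [← neg_smul, mul_neg]) }
  have hG : ∀ b : K, b * b ∈ G := by
    intro b
    rcases eq_or_ne b 0 with rfl | hb
    · rw [mul_zero]; exact G.zero_mem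
    have h1 : SIn X ((s * (b * b)) • v) ((1 : F) • v) :=
      (hfirst b hb 1).congr rfl (by rw [one_smul, one_smul])
    exact ((h1.swap (S.sing hv) (by rw [polar_comm]; exact S.orth_self hv _)).neg).congr rfl
      (by rw [neg_smul, one_smul, neg_neg])
  have := squares_top G hG S.two (k / s)
  exact this.congr rfl (by rw [mul_div_cancel₀ k hs])

omit [IsScalarTower F K V] [FiniteDimensional K V] [Finite K] in
/-- For a field of degree at least three every vector orthogonal over the ground field follows. -/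
theorem full_of_tri [FiniteDimensional F K] (hr : 3 ≤ finrank F K) (t : S.Tri u f z₀)
    (hall : ∀ v, S.QK v = 0 → ∀ k : K, SIn X v (k • v)) {y₀ : V} (h : SIn X u y₀) (hy₀ : S.B u y₀ = 0)
    (hy₀u : ∀ k : K, y₀ ≠ k • u) : H98.OrthMax.Full X u := by
  have p := t.toPair
  have hk : ∀ β : K, ∃ k : K, S.τ (k * β) = 0 ∧ ∀ c : F, k ≠ algebraMap F K c := by
    intro β
    by_contra hc
    push Not at hc
    have hle : LinearMap.ker (S.τ.comp (LinearMap.mulRight F β)) ≤ Submodule.span F {(1 : K)} := fun k hk => by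
      obtain ⟨c, rfl⟩ := hc k hk
      exact Submodule.mem_span_singleton.2 ⟨c, (Algebra.algebraMap_eq_smul_one c).symm⟩
    have h1 := Submodule.finrank_mono hle
    rw [finrank_span_singleton one_ne_zero] at h1
    have h2 := LinearMap.finrank_range_add_finrank_ker (S.τ.comp (LinearMap.mulRight F β))
    have h3 := Submodule.finrank_le (LinearMap.range (S.τ.comp (LinearMap.mulRight F β)))
    rw [finrank_self] at h3
    omega
  set q := 2 * S.QK z₀ with hq
  have hq0 : q ≠ 0 := mul_ne_zero S.two t.zq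
  have hBz : ∀ a b : K, S.B (a • z₀) (b • z₀) = a * b * q := fun a b => by
    rw [B, polar_smul_left', polar_smul_right', polar_self', hq]; ring
  have hfz : ∀ a : K, S.B f (a • z₀) = 0 := fun a => by rw [B, polar_smul_right', ← B, t.zf, mul_zero]
  -- the hyperplane of a vector
  have hplane : ∀ y : K, y ≠ 0 → SIn X u (y • z₀) → ∀ d : K, S.τ d = 0 → SIn X u ((d / (y * q)) • z₀) := by
    intro y hy hyin d hd
    rcases eq_or_ne d 0 with rfl | hd0
    · exact (sIn_zero (S.sing p.su)).congr rfl (by rw [zero_div, zero_smul])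
    obtain ⟨k, hkd, hkF⟩ := hk d
    obtain ⟨b, hb, hkb⟩ := exists_ker_mul (S := S) hkF
    have hout : ∀ b : K, S.τ b = 0 → S.τ (k * b) = 1 → SIn X u ((b / (y * q)) • z₀ + d • f) := fun b hb hkb =>
      sIn_out p hall hd hd0 hkd hb hkb hyin (t.smul_zu _) (hfz _) (t.smul_zu _) (hfz _) (by
        rw [hBz]; field_simp)
    have h1 := hout (b + d) (by rw [map_add, hb, hd, add_zero]) (by rw [mul_add, map_add, hkb, hkd, add_zero])
    exact (h1.sub (hout b hb hkb)).congr rfl (by rw [add_sub_add_right_eq_sub, ← sub_smul, ← sub_div, add_sub_cancel_left])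
  obtain ⟨c, hc⟩ := t.coords y₀
  rw [hy₀, zero_smul, add_zero] at hc
  have hc0 : c ≠ 0 := fun e => hy₀u _ (by rw [e, zero_smul, add_zero] at hc; exact hc)
  have hcin : SIn X u (c • z₀) := (h.sub (hall u p.su (S.B f y₀))).congr rfl (by
    conv_lhs => arg 1; rw [hc]
    rw [add_sub_cancel_left])
  -- a second vector
  obtain ⟨d₀, hd₀, hd₀F⟩ : ∃ d, S.τ d = 0 ∧ ∀ s : F, d / (c * q) / c ≠ algebraMap F K s := by
    obtain ⟨k, hk1, hk2⟩ := hk (c * q * c)
    refine ⟨k * (c * q * c), hk1, fun s hs => hk2 s ?_⟩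
    rw [← hs]; field_simp
  set c' := d₀ / (c * q) with hc'
  have hc'in : SIn X u (c' • z₀) := hplane c hc0 hcin d₀ hd₀
  have hc'0 : c' ≠ 0 := fun e => hd₀F 0 (by rw [e, zero_div, map_zero])
  obtain ⟨b, hb, hkb⟩ := exists_ker_mul (S := S) hd₀F
  have hallz : ∀ ω : K, SIn X u (ω • z₀) := by
    intro ω
    set d := S.τ (ω * (c' * q)) • b with hd
    have h1 := hplane c hc0 hcin d (by rw [hd, map_smul, hb, smul_zero])
    have h2 := hplane c' hc'0 hc'in (ω * (c' * q) - c' / c * d) (by
      rw [map_sub, hd, mul_smul_comm, map_smul, hkb, smul_eq_mul, mul_one, sub_self])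
    refine (h1.add h2).congr rfl ?_
    rw [← add_smul]
    congr 1
    field_simp
    ring
  refine fun w hu hw => ?_
  obtain ⟨e, hwd⟩ := t.coords w
  have hβf : SIn X u (S.B u w • f) := by
    rcases eq_or_ne (S.B u w) 0 with h0 | h0
    · rw [h0, zero_smul]; exact sIn_zero hu
    obtain ⟨k, hkβ, hkF⟩ := hk (S.B u w)
    obtain ⟨b, hb, hkb⟩ := exists_ker_mul (S := S) hkF
    have h1 := sIn_out p hall (by rw [← S.f_eq]; exact hw) h0 hkβ hb hkb hcin (t.smul_zu _) (hfz _)
      (t.smul_zu (b / (c * q))) (hfz _) (by rw [hBz]; field_simp)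
    exact (h1.sub (hallz (b / (c * q)))).congr rfl (by abel)
  obtain ⟨_, _, hm'⟩ := ((hall u p.su (S.B f w)).add hβf |>.add (hallz e)).congr rfl hwd.symm
  exact hm'

end EStr

end Cfsg.Agent.H57.ExtOrth
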