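import Cfsg.Agent.H57.ExtOrth.Main
import Cfsg.Agent.H57.ExtOrth.Three.Exist
import Cfsg.Agent.H57.ExtOrth.Three.Good
import Cfsg.Agent.H57.ExtOrth.Three.Spread

/-!
Overgroups in dimension three over the field.
-/

set_option autoImplicit false

namespace Cfsg.Agent.H57.ExtOrth

open QuadraticMap Module Cfsg.Agent.Orthogonal
open Cfsg.Agent.H98.SubfieldOrth (SIn)

variable {F K V : Type*} [Field F] [Finite F] [Field K] [Algebra F K] [AddCommGroup V] [Module F V] [Module K V]
  [IsScalarTower F K V] [FiniteDimensional K V] [FiniteDimensional F K] [FiniteDimensional F V]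
  {Q : QuadraticForm F V} {S : EStr Q K} {X : Subgroup (O Q)}

/-- In dimension three an overgroup inside Ω with an element that is not semilinear contains every Eichler
transformation. -/
theorem EStr.sieGroup_le_three (hm : finrank K V = 3) (hr : (finrank F K).Prime) (h3 : 3 ≤ finrank F K)
    (hX : S.Over X) (hXc : X ≤ commutator (O Q)) {g : O Q} (hg : g ∈ X) (hns : ¬Semi K g) : sieGroup Q ≤ X := by
  have : Finite K := Module.finite_of_finite F
  have hK : 27 ≤ Nat.card K := S.card_field_ge h3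
  have hF : (2 : F) ≠ 0 := fun h0 => S.two (by rw [← map_ofNat (algebraMap F K) 2, h0, map_zero])
  obtain ⟨v, hv0, hv⟩ := S.nd.exists_singular (by omega)
  obtain ⟨f, p⟩ := exists_pair hv hv0
  obtain ⟨ν, hν, hin⟩ := exists_tin hm hr h3 hX hXc hg hns hv0 hv
  have halt := hin.alt p
  obtain ⟨T, hT, hT'⟩ := hin
  -- a vector fixed with its line moved
  obtain ⟨β, hβ, hker⟩ := exists_alt_kernel hF (hr.odd_of_ne_two (by omega))
    (((LinearMap.mul F K).compr₂ S.τ).compl₂ ν) fun a b => halt a b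
  have hνβ : ν β = 0 := S.eq_zero_of_tau fun s => by
    have h1 := halt s β
    rw [show S.τ (β * ν s) = 0 from hker s, add_zero] at h1
    exact h1
  have hfix : (T : V ≃ₗ[F] V) (β • f) = β • f := by rw [hT', p.Bu_smul_f, hνβ, zero_smul, add_zero]
  have hw0 : β • f ≠ 0 := smul_ne_zero hβ p.ne_zero'
  have hmove : ¬KeepsLine K T (β • f) := fun hk => hν (LinearMap.ext fun l => by
    obtain ⟨k', hk'⟩ := hk (l / β)
    rw [hfix, ← mul_smul, div_mul_cancel₀ l hβ, hT', p.Bu_smul_f] at hk'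
    have h1 := congrArg (S.B f) hk'
    rw [B, polar_add_right, ← B, ← B, p.Bf_smul_f, p.Bf_smul_u, zero_add, ← mul_smul, p.Bf_smul_f] at h1
    rw [h1, LinearMap.zero_apply])
  obtain ⟨f₁, p₁⟩ := exists_pair (S.sing_smul p.sf β) hw0
  obtain ⟨ν₁, hν₁, hin₁⟩ := exists_tin hm hr h3 hX hXc hg hns hw0 (S.sing_smul p.sf β)
  obtain ⟨u, x, hu0, hu, -, hux, hxu, hux'⟩ := exists_root hm.ge hr hX p₁
    (good_of_three hm hr h3 hK hX p₁ hν₁ hin₁) hT hfix hmove
  obtain ⟨f₂, p₂⟩ := exists_pair hu hu0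
  obtain ⟨z₀, t⟩ := exists_tri hm p₂
  have hl := sIn_line hX p₂ hux' hux hxu
  have hfull := full_of_tri (by omega) t (fun w hw k => sIn_line_three hm.ge hX p₂ hl hw k) hux' hux hxu
  obtain ⟨n, hn, s, hs, hns'⟩ := exists_point hm.ge hu hu0 p₂.sf p₂.ne_zero'
  obtain ⟨b, hb, hbτ⟩ : ∃ b : K, b ≠ 0 ∧ S.τ (s * (b * b)) ≠ 0 := by
    by_contra hc
    push Not at hc
    let G : AddSubgroup K :=
      { carrier := {k | S.τ (s * k) = 0}
        add_mem' := fun {a b} ha hb => by
          show S.τ (s * (a + b)) = 0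
          rw [mul_add, map_add, show S.τ (s * a) = 0 from ha, show S.τ (s * b) = 0 from hb, add_zero]
        zero_mem' := by
          show S.τ (s * 0) = 0
          rw [mul_zero, map_zero]
        neg_mem' := fun {a} ha => by
          show S.τ (s * -a) = 0
          rw [mul_neg, map_neg, show S.τ (s * a) = 0 from ha, neg_zero] }
    refine hs (S.eq_zero_of_tau fun k => ?_)
    rw [mul_comm]
    refine squares_top G (fun b => ?_) S.two k
    rcases eq_or_ne b 0 with rfl | hb
    · rw [mul_zero]; exact G.zero_mem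
    · exact hc b hb
  obtain ⟨f₃, p₃⟩ := exists_pair p₂.sf p₂.ne_zero'
  obtain ⟨n₂, hn₂, hn₂f, -, -⟩ := p₃.exists_torus' hb
  have hfull' := hfull.map (X.mul_mem (hX.res_mem hn₂) (hX.res_mem hn))
  rw [Subgroup.coe_mul, mul_app, res_app, res_app, hns', hn₂f] at hfull'
  refine H98.OrthMax.sieGroup_le_of_pair S.nondeg ?_ hfull hfull' (S.sing hu) (S.sing (S.sing_smul p₂.sf _)) ?_
  · have hn := Module.finrank_mul_finrank F K V
    rw [hm] at hn
    omega
  · rw [S.f_eq, p₂.Bu_smul_f]; exact hbτ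

end Cfsg.Agent.H57.ExtOrth
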