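import Cfsg.Agent.H57.ExtOrth.Spread

/-!
The torus of a hyperbolic pair, and elements of a group that move everything along a singular line.
-/

set_option autoImplicit false

namespace Cfsg.Agent.H57.ExtOrth

open QuadraticMap Module Cfsg.Agent.Orthogonal
open scoped commutatorElement

variable {F K V : Type*} [Field F] [Field K] [Algebra F K] [AddCommGroup V] [Module F V] [Module K V]
  {Q : QuadraticForm F V}

namespace EStr

variable {S : EStr Q K} {u f : V}

/-- The square of a torus element is a commutator. -/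
theorem Pair.exists_torus (p : S.Pair u f) {b : K} (hb : b ≠ 0) :
    ∃ n ∈ commutator (O S.QK), (n : V ≃ₗ[K] V) u = (b * b) • u := by
  set w := rO S.QK (u - f) with hw
  set v := rO S.QK (u - b⁻¹ • f) with hv
  set d := v * w with hd
  have hQ1 : S.QK (u - f) ≠ 0 := by
    rw [qmap_sub, p.su, p.sf, show polar S.QK u f = 1 from p.uf]; simp
  have hwu : (w : V ≃ₗ[K] V) u = f := rO_sub_swap (by rw [p.su, p.sf]) hQ1
  have hwf : (w : V ≃ₗ[K] V) f = u := by
    rw [← hwu, ← mul_app, ← Subgroup.coe_mul, hw, rO_mul_self]; rfl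
  have hvu : (v : V ≃ₗ[K] V) u = b⁻¹ • f := by
    refine rO_sub_swap (by rw [qmap_smul, p.su, p.sf, mul_zero]) ?_
    rw [qmap_sub, qmap_smul, p.su, p.sf, polar_smul_right', show polar S.QK u f = 1 from p.uf]
    simp [hb]
  have hvf : (v : V ≃ₗ[K] V) f = b • u := by
    have h1 : (v : V ≃ₗ[K] V) (b⁻¹ • f) = u := by rw [← hvu, ← mul_app, ← Subgroup.coe_mul, hv, rO_mul_self]; rfl
    rw [map_smul] at h1
    rw [← h1, smul_smul, mul_inv_cancel₀ hb, one_smul]
  refine ⟨⁅d, w⁆, Subgroup.commutator_mem_commutator (Subgroup.mem_top _) (Subgroup.mem_top _), ?_⟩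
  rw [commutatorElement_def, hd, mul_inv_rev, hw, hv, rO_inv, rO_inv, ← hw, ← hv]
  simp only [Subgroup.coe_mul, mul_app]
  rw [hwu, hvf, map_smul, hwu, map_smul, hwf, map_smul, hwu, map_smul, hvf, smul_smul]

variable [IsScalarTower F K V]

/-- `X` contains the map `x ↦ x + ν (B u x) • u`. -/
def TIn (S : EStr Q K) (X : Subgroup (O Q)) (u : V) (ν : K →ₗ[F] K) : Prop :=
  ∃ T ∈ X, ∀ x, (T : V ≃ₗ[F] V) x = x + ν (S.B u x) • u

variable {X : Subgroup (O Q)} {ν ν' : K →ₗ[F] K}

omit [IsScalarTower F K V] in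
theorem TIn.zero : S.TIn X u 0 := ⟨1, X.one_mem, fun x => by simp⟩

omit [IsScalarTower F K V] in
theorem TIn.add (p : S.Pair u f) (h : S.TIn X u ν) (h' : S.TIn X u ν') : S.TIn X u (ν + ν') := by
  obtain ⟨T, hT, h1⟩ := h
  obtain ⟨T', hT', h2⟩ := h'
  refine ⟨T * T', X.mul_mem hT hT', fun x => ?_⟩
  have hB : S.B u (x + ν' (S.B u x) • u) = S.B u x := by
    show polar S.QK u _ = polar S.QK u x
    rw [polar_add_right]
    show S.B u x + S.B u (_ • u) = S.B u x
    rw [p.Bu_smul_u, add_zero]
  rw [Subgroup.coe_mul, mul_app, h1, h2, hB, LinearMap.add_apply, add_smul]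
  abel

omit [IsScalarTower F K V] in
theorem TIn.neg (p : S.Pair u f) (h : S.TIn X u ν) : S.TIn X u (-ν) := by
  obtain ⟨T, hT, h1⟩ := h
  refine ⟨T⁻¹, X.inv_mem hT, fun x => (T : V ≃ₗ[F] V).injective ?_⟩
  have hB : S.B u (x + (-ν) (S.B u x) • u) = S.B u x := by
    show polar S.QK u _ = polar S.QK u x
    rw [polar_add_right]
    show S.B u x + S.B u (_ • u) = S.B u x
    rw [p.Bu_smul_u, add_zero]
  rw [← mul_app, ← Subgroup.coe_mul, mul_inv_cancel, h1, hB, LinearMap.neg_apply, neg_smul]
  show x = _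
  abel

omit [IsScalarTower F K V] in
theorem TIn.alt (p : S.Pair u f) (h : S.TIn X u ν) (a b : K) : S.τ (a * ν b) + S.τ (b * ν a) = 0 := by
  obtain ⟨T, hT, h1⟩ := h
  simpa using (shape_of_along p h1).alt p a b

/-- Conjugating by the torus. -/
theorem TIn.torus (p : S.Pair u f) (hX : S.Over X) (h : S.TIn X u ν) {b : K} (hb : b ≠ 0) :
    S.TIn X u (((LinearMap.mulLeft F (b * b)).comp ν).comp (LinearMap.mulLeft F (b * b))) := by
  obtain ⟨T, hT, h1⟩ := h
  obtain ⟨n, hn, hnu⟩ := p.exists_torus hb
  refine ⟨S.res n * T * (S.res n)⁻¹, X.mul_mem (X.mul_mem (hX.res_mem hn) hT) (X.inv_mem (hX.res_mem hn)), fun x => ?_⟩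
  obtain ⟨y, rfl⟩ := ((S.res n : O Q) : V ≃ₗ[F] V).surjective x
  rw [← mul_app, ← Subgroup.coe_mul, inv_mul_cancel_right, Subgroup.coe_mul, mul_app, h1, map_add, res_app, res_app,
    map_smul, hnu, add_right_inj, smul_smul]
  have hβ : S.B u y = (b * b) * S.B u ((n : V ≃ₗ[K] V) y) := by
    rw [B, B, ← polar_smul_left', ← hnu, O.polar_app]
  rw [hβ, LinearMap.comp_apply, LinearMap.comp_apply, LinearMap.mulLeft_apply, LinearMap.mulLeft_apply, mul_comm _ (b * b)]

omit [IsScalarTower F K V] in
/-- Fourth powers span a finite field with more than sixteen elements and at least the cube of a prime. -/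
theorem fourth_span [Finite K] (G : AddSubgroup K) (h : ∀ s : K, s ^ 4 ∈ G) (hK : 27 ≤ Nat.card K) (x : K) : x ∈ G := by
  classical
  set T := AddSubgroup.closure (Set.range fun s : K => s ^ 4) with hT
  have hmul : ∀ a ∈ T, ∀ b ∈ T, a * b ∈ T := by
    intro a ha b hb
    induction ha using AddSubgroup.closure_induction with
    | mem a ha =>
      obtain ⟨s, rfl⟩ := ha
      induction hb using AddSubgroup.closure_induction with
      | mem b hb =>
        obtain ⟨t, rfl⟩ := hb
        exact AddSubgroup.subset_closure ⟨s * t, mul_pow s t 4⟩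
      | zero => rw [mul_zero]; exact T.zero_mem
      | add b c _ _ hb hc => rw [mul_add]; exact T.add_mem hb hc
      | neg b _ hb => rw [mul_neg]; exact T.neg_mem hb
    | zero => rw [zero_mul]; exact T.zero_mem
    | add a c _ _ ha hc => rw [add_mul]; exact T.add_mem ha hc
    | neg a _ ha => rw [neg_mul]; exact T.neg_mem ha
  have h1 : (1 : K) ∈ T := AddSubgroup.subset_closure ⟨1, one_pow 4⟩
  let R : Subring K := { T with mul_mem' := fun ha hb => hmul _ ha _ hb, one_mem' := h1 }
  have : Fintype R := Fintype.ofFinite R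
  have hfield : IsField R := Finite.isDomain_to_isField R
  letI : Field R := hfield.toField
  have hd : ∃ d, 0 < d ∧ Nat.card K = Nat.card R ^ d := ⟨finrank R K, Module.finrank_pos, Module.natCard_eq_pow_finrank⟩
  obtain ⟨d, hd0, hd⟩ := hd
  have hfib : Nat.card K ≤ 4 * Nat.card R := by
    have : Fintype K := Fintype.ofFinite K
    have h2 := Finset.card_le_mul_card_image (Finset.univ : Finset K) (f := fun s => (⟨s ^ 4,
      AddSubgroup.subset_closure ⟨s, rfl⟩⟩ : R)) 4 (fun a _ => by
        refine (Finset.card_le_card (t := (Polynomial.nthRoots 4 (a : K)).toFinset) fun s hs => ?_).trans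
          ((Multiset.toFinset_card_le _).trans (Polynomial.card_nthRoots 4 _))
        rw [Finset.mem_filter] at hs
        rw [Multiset.mem_toFinset, Polynomial.mem_nthRoots (by norm_num)]
        exact congrArg Subtype.val hs.2)
    rw [Finset.card_univ, ← Nat.card_eq_fintype_card] at h2
    refine h2.trans (Nat.mul_le_mul_left _ ?_)
    rw [Nat.card_eq_fintype_card]
    exact Finset.card_le_univ _
  have hd1 : d = 1 := by
    by_contra hd1
    have h3 : Nat.card R ^ 2 ≤ Nat.card K := hd ▸ Nat.pow_le_pow_right Nat.card_pos (by omega)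
    rw [pow_two] at h3
    nlinarith
  rw [hd1, pow_one] at hd
  have htop : (R : Set K) = Set.univ := Set.eq_of_subset_of_ncard_le (Set.subset_univ _)
    (by rw [Set.ncard_univ, ← Nat.card_coe_set_eq]; exact hd.le) (Set.toFinite _)
  have hx : x ∈ T := show x ∈ (R : Set K) from htop ▸ Set.mem_univ x
  exact (AddSubgroup.closure_le G).2 (by rintro _ ⟨s, rfl⟩; exact h s) hx

/-- The values at a fixed point fill the hyperplane orthogonal to it. -/
theorem TIn.exists_value [FiniteDimensional F K] [Finite K] (p : S.Pair u f) (hX : S.Over X) (h : S.TIn X u ν)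
    (hν : ν ≠ 0) (hr : (finrank F K).Prime) (hK : 27 ≤ Nat.card K) {c : K} (hc : c ≠ 0) {v : K}
    (hv : S.τ (c * v) = 0) : ∃ ν', S.TIn X u ν' ∧ ν' c = v := by
  let U : AddSubgroup K :=
    { carrier := {v | ∃ ν', S.TIn X u ν' ∧ ν' c = v}
      add_mem' := fun {a b} ⟨ν₁, h₁, e₁⟩ ⟨ν₂, h₂, e₂⟩ => ⟨ν₁ + ν₂, h₁.add p h₂, by rw [LinearMap.add_apply, e₁, e₂]⟩
      zero_mem' := ⟨0, TIn.zero, LinearMap.zero_apply c⟩
      neg_mem' := fun {a} ⟨ν₁, h₁, e₁⟩ => ⟨-ν₁, h₁.neg p, by rw [LinearMap.neg_apply, e₁]⟩ }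
  let L : K → K → K ⧸ U := fun a b => QuotientAddGroup.mk (a * ν (b * c) + b * ν (a * c))
  have hLadd : ∀ a a' b, L (a + a') b = L a b + L a' b := fun a a' b => by
    show QuotientAddGroup.mk _ = QuotientAddGroup.mk _ + QuotientAddGroup.mk _
    rw [← QuotientAddGroup.mk_add]
    congr 1
    rw [add_mul a a' c, map_add]; ring
  have hLsymm : ∀ a b, L a b = L b a := fun a b => congrArg QuotientAddGroup.mk (add_comm _ _)
  have hLneg : ∀ a b, L (-a) b = -L a b := fun a b => by
    show QuotientAddGroup.mk _ = -QuotientAddGroup.mk _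
    rw [← QuotientAddGroup.mk_neg]
    congr 1
    rw [neg_mul a c, map_neg]; ring
  have htwo : ∀ z : K ⧸ U, z + z = 0 → z = 0 := fun z hz => by
    have h1 : ∀ n : ℕ, (n • z + n • z) = 0 := fun n => by rw [← nsmul_add, hz, nsmul_zero]
    obtain ⟨q, hq⟩ := QuotientAddGroup.mk_surjective z
    have hp : (ringChar K : ℕ) • z = 0 := by
      rw [← hq, ← QuotientAddGroup.mk_nsmul, nsmul_eq_mul, ringChar.Nat.cast_ringChar, zero_mul, QuotientAddGroup.mk_zero]
    have hp2 : ringChar K % 2 = 1 := Nat.odd_iff.1 ((CharP.char_is_prime K (ringChar K)).odd_of_ne_two fun h2 => S.two (by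
      have := ringChar.Nat.cast_ringChar (R := K); rwa [h2, Nat.cast_ofNat] at this))
    obtain ⟨j, hj⟩ : ∃ j, ringChar K = j + j + 1 := ⟨ringChar K / 2, by omega⟩
    rwa [hj, add_nsmul, add_nsmul, h1, zero_add, one_nsmul] at hp
  have hdiag : ∀ b : K, L (b * b) (b * b) = 0 := fun b => by
    refine (QuotientAddGroup.eq_zero_iff _).2 ?_
    rcases eq_or_ne b 0 with rfl | hb
    · simp
    exact U.add_mem ⟨_, h.torus p hX hb, rfl⟩ ⟨_, h.torus p hX hb, rfl⟩
  -- polarising the fourth powers
  have hpol : ∀ a b : K, L (a * a) (b * b) + (L (a * b) (a * b) + L (a * b) (a * b)) = 0 := by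
    intro a b
    have e1 := hdiag (a + b)
    have e2 := hdiag (a - b)
    rw [show (a + b) * (a + b) = a * a + b * b + (a * b + a * b) by ring] at e1
    rw [show (a - b) * (a - b) = a * a + b * b + -(a * b + a * b) by ring] at e2
    simp only [hLadd, hLneg, hLsymm _ (_ + _), hLsymm _ (-_), hdiag, hLsymm (b * b) (a * a), hLsymm (a * b) (a * a),
      hLsymm (a * b) (b * b), zero_add, add_zero, neg_neg] at e1 e2
    refine htwo _ (htwo _ ?_)
    have := congrArg₂ (· + ·) e1 e2
    rw [add_zero] at this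
    rw [← this]
    abel
  have hsq : ∀ a b : K, L (a * a) (b * b) = L (a * a * (b * b)) 1 := fun a b => by
    have h1 := hpol a b
    have h2 := hpol (a * b) 1
    rw [one_mul, mul_one] at h2
    rw [show a * a * (b * b) = a * b * (a * b) by ring]
    exact add_right_cancel (h1.trans h2.symm)
  have hext : ∀ G : AddSubgroup K, (∀ s : K, s * s ∈ G) → ∀ x, x ∈ G := fun G hG => squares_top G hG S.two
  have hmulL : ∀ a b : K, L a b = L (a * b) 1 := by
    intro a b
    let Gb : AddSubgroup K :=
      { carrier := {b | L a b = L (a * b) 1}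
        add_mem' := fun {x y} hx hy => by
          show L a (x + y) = _
          rw [hLsymm a, hLadd, ← hLsymm a, ← hLsymm a, hx, hy, ← hLadd, mul_add]
        zero_mem' := by
          show L a 0 = L (a * 0) 1
          simp [L]
        neg_mem' := fun {x} hx => by
          show L a (-x) = _
          rw [hLsymm a, hLneg, ← hLsymm a, hx, ← hLneg, mul_neg] }
    refine hext Gb (fun t => ?_) b
    let Ga : AddSubgroup K :=
      { carrier := {a | L a (t * t) = L (a * (t * t)) 1}
        add_mem' := fun {x y} hx hy => by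
          show L (x + y) _ = _
          rw [hLadd, hx, hy, ← hLadd, add_mul]
        zero_mem' := by
          show L 0 _ = L (0 * _) 1
          simp [L]
        neg_mem' := fun {x} hx => by
          show L (-x) _ = _
          rw [hLneg, hx, ← hLneg, neg_mul] }
    exact hext Ga (fun s => hsq s t) a
  have hzero : ∀ x : K, L x 1 = 0 := by
    let G : AddSubgroup K :=
      { carrier := {x | L x 1 = 0}
        add_mem' := fun {x y} hx hy => by
          show L (x + y) 1 = 0
          rw [hLadd, hx, hy, add_zero]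
        zero_mem' := by
          show L 0 1 = 0
          simp [L]
        neg_mem' := fun {x} hx => by
          show L (-x) 1 = 0
          rw [hLneg, hx, neg_zero] }
    refine fourth_span G (fun s => ?_) hK
    show L (s ^ 4) 1 = 0
    rw [show s ^ 4 = s * s * (s * s) by ring, ← hmulL, hdiag]
  have hgen : ∀ a b : K, a * ν (b * c) + b * ν (a * c) ∈ U := fun a b =>
    (QuotientAddGroup.eq_zero_iff _).1 ((hmulL a b).trans (hzero _))
  let W : Submodule F K :=
    { carrier := {w | ∀ s : F, s • w ∈ U}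
      add_mem' := fun {a b} ha hb s => by rw [smul_add]; exact U.add_mem (ha s) (hb s)
      zero_mem' := fun s => by rw [smul_zero]; exact U.zero_mem
      smul_mem' := fun t a ha s => by rw [smul_smul]; exact ha _ }
  have hW : ∀ a b : K, a * ν (b * c) + b * ν (a * c) ∈ W := fun a b s => by
    have := hgen (s • a) b
    rwa [smul_mul_assoc, smul_mul_assoc, map_smul, mul_smul_comm, ← smul_add] at this
  suffices v ∈ W by
    have := this 1
    rw [one_smul] at this
    exact this
  by_contra hvW
  obtain ⟨ψ, hψv, hψW⟩ := Submodule.exists_dual_map_eq_bot_of_notMem hvW inferInstance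
  obtain ⟨η, hη⟩ := S.exists_rep ψ
  have h0 : ∀ a b : K, S.τ (η * a * ν (b * c)) + S.τ (η * b * ν (a * c)) = 0 := fun a b => by
    have : ψ (a * ν (b * c) + b * ν (a * c)) = 0 := by
      rw [← Submodule.mem_bot (R := F), ← hψW]
      exact Submodule.mem_map_of_mem (hW a b)
    rw [hη, mul_add, map_add] at this
    simpa only [mul_assoc] using this
  set ρ := η / c with hρ
  have hcomm : ∀ b : K, ν (ρ * b) = ρ * ν b := by
    intro b
    refine mul_left_cancel₀ hc (S.eq_of_tau fun a => ?_)
    have e1 := h0 a (b / c)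
    rw [div_mul_cancel₀ b hc, show η * (b / c) = ρ * b by rw [hρ]; field_simp] at e1
    have e2 := h.alt p (a * c) (ρ * b)
    rw [show c * (ρ * ν b) = η * ν b by rw [hρ]; field_simp, show a * (c * ν (ρ * b)) = a * c * ν (ρ * b) by ring,
      show a * (η * ν b) = η * a * ν b by ring]
    linear_combination e2 - e1
  let R : Subalgebra F K :=
    { carrier := {x | ∀ b, ν (x * b) = x * ν b}
      mul_mem' := fun {x y} hx hy b => by rw [mul_assoc, hx, hy, mul_assoc]
      one_mem' := fun b => by rw [one_mul, one_mul]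
      add_mem' := fun {x y} hx hy b => by rw [add_mul, map_add, hx, hy, add_mul]
      zero_mem' := fun b => by rw [zero_mul, map_zero, zero_mul]
      algebraMap_mem' := fun t b => by rw [← Algebra.smul_def, map_smul, Algebra.smul_def] }
  have := Subalgebra.isSimpleOrder_of_finrank_prime F K hr
  rcases eq_bot_or_eq_top R with hR | hR
  · have hρR : ρ ∈ R := hcomm
    rw [hR, Algebra.mem_bot] at hρR
    obtain ⟨t, ht⟩ := hρR
    refine hψv ?_
    rw [hη, show η = t • c by rw [Algebra.smul_def, ht, hρ, div_mul_cancel₀ η hc], smul_mul_assoc, map_smul, hv, smul_zero]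
  · refine hν ?_
    obtain ⟨T, -, hT⟩ := h
    exact (shape_of_along p hT).eq_zero_of_twist p fun k => by
      have hkR : k ∈ R := hR ▸ Algebra.mem_top
      rw [RingEquiv.refl_apply, ← hkR 1, mul_one]

end EStr

end Cfsg.Agent.H57.ExtOrth
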