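import Cfsg.Agent.H57.ExtOrth.Three.Torus
import Cfsg.Agent.Orthogonal.Count
import Cfsg.Agent.Orthogonal.Spinor

/-!
Spaces of dimension three over the extension field: coordinates, radical elements and counts.
-/

set_option autoImplicit false

namespace Cfsg.Agent.H57.ExtOrth

open QuadraticMap Module Cfsg.Agent.Orthogonal

variable {F K V : Type*} [Field F] [Field K] [Algebra F K] [AddCommGroup V] [Module F V] [Module K V]
  {Q : QuadraticForm F V}

/-- The number of zeros of a quadratic form in odd dimension. -/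
theorem card_zero_odd [Finite F] [FiniteDimensional F V] (hQ : Nondeg Q) (hodd : Odd (finrank F V)) :
    Nat.card F * Nat.card {x : V // Q x = 0} = Nat.card F ^ finrank F V := by
  obtain ⟨k, e, f, h, ha⟩ := hQ.exists_frame
  have h1 := h.finrank_kernel hQ
  have h2 := finrank_le_two_of_aniso (h.nondeg_kernel hQ) ha
  obtain ⟨j, hj⟩ := hodd
  have h3 := card_zero_frame h ha
  rw [show finrank F (IsFrame.kernel Q e f) = 1 by omega, show 2 * k + 1 = finrank F V by omega] at h3
  omega

/-- Commutators have determinant one. -/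
theorem det_of_mem_commutator {g : O Q} (hg : g ∈ commutator (O Q)) :
    LinearMap.det ((g : V ≃ₗ[F] V) : V →ₗ[F] V) = 1 := by
  have h := Abelianization.commutator_subset_ker ((LinearEquiv.det (R := F) (M := V)).comp (O Q).subtype) hg
  rw [MonoidHom.mem_ker] at h
  have h' := congrArg Units.val h
  rwa [MonoidHom.comp_apply, LinearEquiv.coe_det, Units.val_one] at h'

/-- A semilinear isometry comes with an automorphism of the field. -/
theorem Semi.exists_aut [IsScalarTower F K V] [FiniteDimensional F K] {g : O Q} (hg : Semi K g) {v : V} (hv : v ≠ 0) :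
    ∃ σ : K ≃ₐ[F] K, ∀ (k : K) x, (g : V ≃ₗ[F] V) (k • x) = σ k • (g : V ≃ₗ[F] V) x := by
  choose σ hσ using hg
  have hgv : (g : V ≃ₗ[F] V) v ≠ 0 := fun h => hv ((LinearEquiv.map_eq_zero_iff _).1 h)
  have hinj := smul_left_injective K hgv
  let s : K →ₐ[F] K :=
    { toFun := σ
      map_one' := hinj (by simp only; rw [← hσ, one_smul, one_smul])
      map_mul' := fun a b => hinj (by simp only; rw [← hσ, mul_smul, hσ, hσ, mul_smul])
      map_zero' := hinj (by simp only; rw [← hσ, zero_smul, map_zero, zero_smul])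
      map_add' := fun a b => hinj (by simp only; rw [← hσ, add_smul, map_add, hσ, hσ, add_smul])
      commutes' := fun c => hinj (by simp only; rw [← hσ, algebraMap_smul, map_smul, algebraMap_smul]) }
  exact ⟨AlgEquiv.ofBijective s ⟨s.toRingHom.injective, (LinearMap.injective_iff_surjective (f := s.toLinearMap)).1
    s.toRingHom.injective⟩, hσ⟩

namespace EStr

variable {S : EStr Q K} {u f z₀ : V}

/-- A pair and a vector orthogonal to it that span the space. -/
structure Tri (S : EStr Q K) (u f z₀ : V) : Prop extends S.Pair u f where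
  zu : S.B u z₀ = 0
  zf : S.B f z₀ = 0
  zq : S.QK z₀ ≠ 0
  span : ∀ z, S.B u z = 0 → S.B f z = 0 → ∃ a : K, z = a • z₀

theorem exists_tri [FiniteDimensional K V] (hm : finrank K V = 3) (p : S.Pair u f) : ∃ z₀, S.Tri u f z₀ := by
  have hW := S.nd.nondeg_hyperbolic_perp p.su p.sf p.uf
  have hr := S.nd.finrank_hyperbolic_perp p.su p.sf p.uf
  have h1 : finrank K (perp S.QK (Submodule.span K {u, f})) = 1 := by omega
  obtain ⟨z, hz, hall⟩ := finrank_eq_one_iff'.1 h1
  obtain ⟨hzu, hzf⟩ := (mem_perp_span_pair S.QK).1 z.2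
  refine ⟨z, p, hzu, hzf, fun h0 => hz (hW z fun y => ?_), fun x hx hx' => ?_⟩
  · obtain ⟨c, rfl⟩ := hall y
    rw [polar_restr, Submodule.coe_smul, polar_smul_right', polar_self', h0, mul_zero, mul_zero]
  · obtain ⟨c, hc⟩ := hall ⟨x, (mem_perp_span_pair S.QK).2 ⟨hx, hx'⟩⟩
    exact ⟨c, (congrArg Subtype.val hc).symm⟩

namespace Tri

variable (t : S.Tri u f z₀)
include t

theorem zu' : S.B z₀ u = 0 := by rw [B, polar_comm]; exact t.zu

theorem zf' : S.B z₀ f = 0 := by rw [B, polar_comm]; exact t.zf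

theorem z_ne : z₀ ≠ 0 := fun h => t.zq (by rw [h, QuadraticMap.map_zero])

theorem smul_zu (a : K) : S.B u (a • z₀) = 0 := by rw [B, polar_smul_right', ← B, t.zu, mul_zero]

theorem coords (x : V) : ∃ c : K, x = S.B f x • u + S.B u x • f + c • z₀ := by
  obtain ⟨z, h1, h2, hx⟩ := t.toPair.dec x
  obtain ⟨c, rfl⟩ := t.span z h1 h2
  exact ⟨c, hx⟩

/-- A singular vector orthogonal to the centre lies on its line. -/
theorem mem_line {v : V} (hv : S.QK v = 0) (huv : S.B u v = 0) : ∃ k : K, v = k • u := by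
  obtain ⟨c, hc⟩ := t.coords v
  rw [huv, zero_smul, add_zero] at hc
  have h : c ^ 2 * S.QK z₀ = 0 := by
    rw [← qmap_smul, ← hv]
    conv_rhs => rw [hc, map_add_polar, qmap_smul, t.su, polar_smul_left', show polar S.QK u (c • z₀) = 0 from t.smul_zu c]
    ring
  have hc0 : c = 0 := pow_eq_zero_iff two_ne_zero |>.1 ((mul_eq_zero.1 h).resolve_right t.zq)
  exact ⟨S.B f v, by rw [hc0, zero_smul, add_zero] at hc; exact hc⟩

variable [IsScalarTower F K V]

omit t in
/-- The radical elements. -/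
noncomputable def R (t : S.Tri u f z₀) : Multiplicative K →* O Q :=
  S.res.comp
    { toFun := fun a => sie u (a.toAdd • z₀) t.su (t.smul_zu _)
      map_one' := O.ext_app fun x => by rw [sie_app]; simp
      map_mul' := fun a b => by
        rw [sie_mul]
        exact sie_congr _ _ _ _ rfl (by rw [toAdd_mul, add_smul]) }

theorem R_eq (a : Multiplicative K) : t.R a = S.E u (a.toAdd • z₀) t.su (t.smul_zu _) := rfl

theorem R_app (a : Multiplicative K) (x : V) : (t.R a : V ≃ₗ[F] V) x =
    x + (a.toAdd * S.B z₀ x - a.toAdd ^ 2 * S.QK z₀ * S.B u x) • u - (S.B u x * a.toAdd) • z₀ := by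
  rw [t.R_eq, E_app, qmap_smul, B, polar_smul_left', mul_smul]

theorem R_u (a : Multiplicative K) (k : K) : (t.R a : V ≃ₗ[F] V) (k • u) = k • u := by
  rw [t.R_eq, E_smul_self]

theorem R_semi (a : Multiplicative K) (k : K) (x : V) :
    (t.R a : V ≃ₗ[F] V) (k • x) = k • (t.R a : V ≃ₗ[F] V) x := by rw [t.R_eq, E_semi]

/-- A nontrivial radical element fixes exactly the line. -/
theorem R_fixed {a : Multiplicative K} (ha : a ≠ 1) {x : V} (hx : (t.R a : V ≃ₗ[F] V) x = x) :
    ∃ k : K, x = k • u := by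
  have ha0 : a.toAdd ≠ 0 := fun h => ha (toAdd_eq_zero.1 h)
  rw [t.R_app, add_sub_assoc, add_eq_left] at hx
  have h1 := congrArg (S.B z₀) hx
  simp only [B, polar_sub_right, polar_smul_right', show polar S.QK z₀ u = 0 from t.zu', polar_self', polar_zero_right,
    mul_zero, zero_sub, neg_eq_zero] at h1
  have hβ : S.B u x = 0 := by
    refine (mul_eq_zero.1 ((mul_eq_zero.1 h1).resolve_right (mul_ne_zero S.two t.zq))).resolve_right ha0
  rw [hβ, zero_mul, zero_smul, sub_zero, mul_zero, sub_zero] at hx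
  have hz : S.B z₀ x = 0 :=
    (mul_eq_zero.1 ((smul_eq_zero.1 hx).resolve_right t.toPair.ne_zero)).resolve_left ha0
  obtain ⟨c, hc⟩ := t.coords x
  rw [hβ, zero_smul, add_zero] at hc
  refine ⟨S.B f x, ?_⟩
  rw [hc, B, polar_add_right, polar_smul_right', polar_smul_right', show polar S.QK z₀ u = 0 from t.zu', polar_self',
    mul_zero, zero_add] at hz
  rw [(mul_eq_zero.1 hz).resolve_right (mul_ne_zero S.two t.zq), zero_smul, add_zero] at hc
  exact hc

theorem R_injective : Function.Injective t.R := by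
  rw [injective_iff_map_eq_one]
  intro a ha
  by_contra h
  obtain ⟨k, hk⟩ := t.R_fixed h (x := f) (by rw [ha]; rfl)
  exact one_ne_zero (α := K) (t.uf.symm.trans (t.toPair.B_eq_zero_of_self f hk))

/-- Every radical element is of this kind. -/
theorem exists_R {z : V} (hz : S.B u z = 0) : ∃ a, t.R a = S.E u z t.su hz := by
  obtain ⟨c, hc⟩ := t.coords z
  rw [hz, zero_smul, add_zero] at hc
  refine ⟨Multiplicative.ofAdd c, ?_⟩
  rw [t.R_eq, toAdd_ofAdd]
  refine congrArg S.res ((sie_add_smul t.su (t.smul_zu c) (S.B f z)).symm.trans (sie_congr _ _ _ _ rfl ?_))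
  rw [hc, add_comm]
  congr 1
  rw [B, polar_add_right, polar_smul_right', polar_smul_right', show polar S.QK f u = 1 from t.toPair.fu,
    show polar S.QK f z₀ = 0 from t.zf]
  ring

/-- A commutator that is linear and fixes the centre is radical. -/
theorem mem_R [Finite F] [FiniteDimensional F K] [FiniteDimensional K V] (hodd : Odd (finrank F K)) {g : O Q}
    (hg : g ∈ commutator (O Q)) (hlin : ∀ (k : K) x, (g : V ≃ₗ[F] V) (k • x) = k • (g : V ≃ₗ[F] V) x)
    (hu : (g : V ≃ₗ[F] V) u = u) : g ∈ t.R.range := by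
  have hB : ∀ x y, S.B ((g : V ≃ₗ[F] V) x) ((g : V ≃ₗ[F] V) y) = S.B x y := fun x y => S.eq_of_tau fun s => by
    rw [S.tau_B, S.tau_B, ← hlin, O.polar_app]
  set y := (g : V ≃ₗ[F] V) f with hy
  have huy : S.B u y = 1 := by rw [← hu, hy, hB, t.uf]
  obtain ⟨c, hc⟩ := t.coords y
  have hQy : S.QK y = 0 := by
    have h := hB f f
    rw [B, B, polar_self', polar_self', t.sf, mul_zero, mul_eq_zero] at h
    exact h.resolve_left S.two
  rw [huy, one_smul] at hc
  have hq : S.B f y = -(c ^ 2 * S.QK z₀) := by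
    conv_lhs at hQy => rw [hc]
    rw [map_add_polar, map_add_polar, qmap_smul, qmap_smul, t.su, t.sf, polar_add_left, polar_smul_left',
      polar_smul_left', polar_smul_right', polar_smul_right', show polar S.QK u f = 1 from t.uf,
      show polar S.QK u z₀ = 0 from t.zu, show polar S.QK f z₀ = 0 from t.zf] at hQy
    linear_combination hQy
  set a := Multiplicative.ofAdd (-c) with ha
  have hRf : (t.R a : V ≃ₗ[F] V) f = y := by
    rw [t.R_app, t.zf', t.uf, ha, toAdd_ofAdd]
    conv_rhs => rw [hc, hq]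
    module
  set h := (t.R a)⁻¹ * g with hh
  have hhu : (h : V ≃ₗ[F] V) u = u := by
    have h1 := t.R_u a 1
    rw [one_smul] at h1
    apply (t.R a : V ≃ₗ[F] V).injective
    rw [hh, ← mul_app, ← Subgroup.coe_mul, mul_inv_cancel_left, hu, h1]
  have hhf : (h : V ≃ₗ[F] V) f = f := by
    apply (t.R a : V ≃ₗ[F] V).injective
    rw [hh, ← mul_app, ← Subgroup.coe_mul, mul_inv_cancel_left, ← hy, hRf]
  have hhlin : ∀ (k : K) x, (h : V ≃ₗ[F] V) (k • x) = k • (h : V ≃ₗ[F] V) x := fun k x => by
    apply (t.R a : V ≃ₗ[F] V).injective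
    rw [t.R_semi, hh, ← mul_app, ← mul_app, ← Subgroup.coe_mul, mul_inv_cancel_left, hlin]
  have hhB : ∀ x y, S.B ((h : V ≃ₗ[F] V) x) ((h : V ≃ₗ[F] V) y) = S.B x y := fun x y => S.eq_of_tau fun s => by
    rw [S.tau_B, S.tau_B, ← hhlin, O.polar_app]
  obtain ⟨b, hb⟩ := t.span ((h : V ≃ₗ[F] V) z₀) (by rw [← hhu, hhB, t.zu]) (by rw [← hhf, hhB, t.zf])
  have hb2 : b * b = 1 := by
    have h1 := hhB z₀ z₀
    rw [hb, B, B, polar_smul_left', polar_smul_right', polar_self'] at h1
    exact mul_right_cancel₀ (mul_ne_zero S.two t.zq) (by linear_combination h1)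
  rcases mul_self_eq_one_iff.1 hb2 with rfl | rfl
  · refine ⟨a, ?_⟩
    rw [← inv_mul_eq_one, ← hh]
    refine O.ext_app fun x => ?_
    obtain ⟨d, hd⟩ := t.coords x
    rw [hd, map_add, map_add, hhlin, hhlin, hhlin, hhu, hhf, hb, one_smul]
    rfl
  · exfalso
    have hr : S.res (rO S.QK z₀) = h := O.ext_app fun x => by
      obtain ⟨d, hd⟩ := t.coords x
      rw [hd, res_app, map_add, map_add, map_smul, map_smul, map_smul, rO_fix t.zu', rO_fix t.zf', rO_self t.zq, map_add,
        map_add, hhlin, hhlin, hhlin, hhu, hhf, hb, neg_one_smul]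
    have hdet : LinearMap.det ((g : V ≃ₗ[F] V) : V →ₗ[F] V) = -1 := by
      have e1 : LinearMap.det ((t.R a : V ≃ₗ[F] V) : V →ₗ[F] V) = 1 :=
        det_of_mem_commutator (by rw [t.R_eq]; exact S.res_mem_commutator (S.sie_mem_comm _ _))
      have e2 : g = t.R a * S.res (rO S.QK z₀) := by rw [hr, hh, mul_inv_cancel_left]
      have e3 : ((g : V ≃ₗ[F] V) : V →ₗ[F] V) =
          ((t.R a : V ≃ₗ[F] V) : V →ₗ[F] V) * ((rO S.QK z₀ : V ≃ₗ[K] V) : V →ₗ[K] V).restrictScalars F := by
        rw [e2]; rfl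
      have e4 : LinearMap.det ((rO S.QK z₀ : V ≃ₗ[K] V) : V →ₗ[K] V) = -1 := by
        have : ((rO S.QK z₀ : V ≃ₗ[K] V) : V →ₗ[K] V) =
            LinearMap.transvection (-(S.QK z₀)⁻¹ • S.QK.polarBilin z₀) z₀ := by
          refine LinearMap.ext fun x => ?_
          rw [LinearEquiv.coe_coe, rO_app, LinearMap.transvection.apply, sub_eq_add_neg, ← neg_smul]
          simp [polarBilin_apply', mul_comm]
        have hq := t.zq
        rw [this, LinearMap.transvection.det]
        simp [polarBilin_apply', polar_self', hq]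
        field_simp
        ring
      rw [e3, map_mul, e1, one_mul, LinearMap.det_restrictScalars, e4,
        show (-1 : K) = algebraMap F K (-1) by rw [map_neg, map_one], Algebra.norm_algebraMap, hodd.neg_one_pow]
    rw [det_of_mem_commutator hg] at hdet
    exact S.two (by rw [← map_ofNat (algebraMap F K), show (2 : F) = 0 by linear_combination hdet, map_zero])

end Tri

variable [FiniteDimensional K V]

/-- Singular lines are moved to each other. -/
theorem exists_point (hm : 3 ≤ finrank K V) {v : V} (hu : S.QK u = 0) (hu0 : u ≠ 0) (hv : S.QK v = 0) (hv0 : v ≠ 0) :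
    ∃ n ∈ commutator (O S.QK), ∃ s : K, s ≠ 0 ∧ (n : V ≃ₗ[K] V) u = s • v := by
  obtain ⟨n, hn, s, hs, hnu⟩ := exists_sie_point S.nd hm hu0 hv0 hu hv
  exact ⟨n, sieGroup_le_comm hn, s, hs, hnu⟩

omit [FiniteDimensional K V] in
/-- Moving the elements along a line to another line. -/
theorem TIn.map [IsScalarTower F K V] {X : Subgroup (O Q)} {ν : K →ₗ[F] K} {v : V} {s : K} (hX : S.Over X) {n : O S.QK}
    (hn : n ∈ commutator (O S.QK)) (hnu : (n : V ≃ₗ[K] V) u = s • v) (h : S.TIn X u ν) :
    S.TIn X v (((LinearMap.mulLeft F s).comp ν).comp (LinearMap.mulLeft F s)) := by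
  obtain ⟨T, hT, h1⟩ := h
  refine ⟨S.res n * T * (S.res n)⁻¹, X.mul_mem (X.mul_mem (hX.res_mem hn) hT) (X.inv_mem (hX.res_mem hn)), fun x => ?_⟩
  obtain ⟨y, rfl⟩ := ((S.res n : O Q) : V ≃ₗ[F] V).surjective x
  rw [← mul_app, ← Subgroup.coe_mul, inv_mul_cancel_right, Subgroup.coe_mul, mul_app, h1, map_add, res_app, res_app,
    map_smul, hnu, add_right_inj, smul_smul]
  have hβ : S.B u y = s * S.B v ((n : V ≃ₗ[K] V) y) := by
    rw [B, B, ← polar_smul_left', ← hnu, O.polar_app]
  rw [hβ, LinearMap.comp_apply, LinearMap.comp_apply, LinearMap.mulLeft_apply, LinearMap.mulLeft_apply, mul_comm _ s]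

end EStr

end Cfsg.Agent.H57.ExtOrth
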